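import Mathlib
import Cfsg.Agent.Lib.Coprime.Action

/-!
# Small tools on the symmetric and alternating groups
-/

set_option autoImplicit false

namespace Cfsg.Agent.LAE65.TW

open Subgroup Equiv

variable {α : Type*} [Fintype α] [DecidableEq α]

/-- For `n ≥ 4` only the identity commutes with all even permutations. -/
theorem eq_one_of_commute_alternating (h4 : 4 ≤ Fintype.card α) {x : Perm α}
    (hx : ∀ a ∈ alternatingGroup α, a * x = x * a) : x = 1 := by
  by_contra h
  obtain ⟨i, hi⟩ : ∃ i, x i ≠ i := by
    by_contra hc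
    push Not at hc
    exact h (Equiv.ext hc)
  have h2 : 1 < (Finset.univ \ {i, x i} : Finset α).card := by
    have h3 := Finset.card_sdiff_add_card_eq_card (Finset.subset_univ ({i, x i} : Finset α))
    rw [Finset.card_pair (Ne.symm hi), Finset.card_univ] at h3
    omega
  obtain ⟨k, hk, l, hl, hkl⟩ := Finset.one_lt_card.mp h2
  simp only [Finset.mem_sdiff, Finset.mem_univ, true_and, Finset.mem_insert,
    Finset.mem_singleton, not_or] at hk hl
  have ha : swap (x i) k * swap k l ∈ alternatingGroup α := by
    rw [Perm.mem_alternatingGroup, map_mul, Perm.sign_swap (Ne.symm hk.2), Perm.sign_swap hkl]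
    rfl
  have h5 := congrArg (fun f : Perm α => f i) (hx _ ha)
  have e1 : (swap (x i) k * swap k l) i = i := by
    rw [Perm.mul_apply, swap_apply_of_ne_of_ne (Ne.symm hk.1) (Ne.symm hl.1),
      swap_apply_of_ne_of_ne (Ne.symm hi) (Ne.symm hk.1)]
  have e2 : (swap (x i) k * swap k l) (x i) = k := by
    rw [Perm.mul_apply, swap_apply_of_ne_of_ne (Ne.symm hk.2) (Ne.symm hl.2), swap_apply_left]
  simp only [Perm.mul_apply x, Perm.mul_apply (swap (x i) k * swap k l) x] at h5
  rw [e1, e2] at h5
  exact hk.2 h5

/-- A nontrivial subgroup normalized by the alternating group contains it. -/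
theorem alternating_le_of_normalized (h5 : 5 ≤ Fintype.card α) {X : Subgroup (Perm α)}
    (hn : alternatingGroup α ≤ Subgroup.normalizer (X : Set (Perm α))) (hX : X ≠ ⊥) :
    alternatingGroup α ≤ X := by
  haveI := alternatingGroup.isSimpleGroup (α := α) (by rwa [Nat.card_eq_fintype_card])
  have hN : (X.subgroupOf (alternatingGroup α)).Normal := by
    refine ⟨fun x hx c => ?_⟩
    exact (mem_normalizer_iff.mp (hn c.2) _).mp hx
  rcases hN.eq_bot_or_eq_top with h | h
  · exfalso
    refine hX ?_
    rw [eq_bot_iff]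
    intro x hx
    rw [mem_bot]
    refine eq_one_of_commute_alternating (by omega) fun a ha => ?_
    have h1 : a * x * a⁻¹ * x⁻¹ ∈ X := mul_mem ((mem_normalizer_iff.mp (hn ha) x).mp hx) (inv_mem hx)
    have h2 : a * x * a⁻¹ * x⁻¹ ∈ alternatingGroup α := by
      rw [Perm.mem_alternatingGroup]
      simp only [map_mul, map_inv]
      rw [Int.units_inv_eq_self, Int.units_inv_eq_self, mul_assoc, mul_assoc,
        mul_comm (Perm.sign x), mul_assoc, Int.units_mul_self, mul_one, Int.units_mul_self]
    have h3 : (⟨_, h2⟩ : alternatingGroup α) ∈ X.subgroupOf (alternatingGroup α) := h1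
    rw [h, mem_bot] at h3
    have h4 : a * x * a⁻¹ * x⁻¹ = 1 := congrArg Subtype.val h3
    rw [mul_inv_eq_one, mul_inv_eq_iff_eq_mul] at h4
    exact h4
  · exact subgroupOf_eq_top.mp h

/-- The image of a normalized subgroup is trivial or holds the alternating group. -/
theorem map_dichotomy {H : Type*} [Group H] (h5 : 5 ≤ Fintype.card α) (f : H →* Perm α)
    (hf : alternatingGroup α ≤ f.range) (X : Subgroup H) [hX : X.Normal] :
    X ≤ f.ker ∨ alternatingGroup α ≤ X.map f := by
  rcases eq_or_ne (X.map f) ⊥ with h | h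
  · exact Or.inl ((map_eq_bot_iff X).mp h)
  · refine Or.inr (alternating_le_of_normalized h5 (hf.trans ?_) h)
    refine le_trans ?_ (le_normalizer_map f)
    rw [normalizer_eq_top_iff.mpr hX, ← MonoidHom.range_eq_map]

theorem factorial_le_two_mul_card_of_alternating_le [Nontrivial α] {X : Subgroup (Perm α)}
    (h : alternatingGroup α ≤ X) : (Fintype.card α).factorial ≤ 2 * Nat.card X := by
  have h1 := two_mul_nat_card_alternatingGroup (α := α)
  rw [Nat.card_perm, Nat.card_eq_fintype_card (α := α)] at h1
  have h2 := Subgroup.card_le_of_le h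
  omega

end Cfsg.Agent.LAE65.TW
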