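import Cfsg.Agent.LAE65.TW.Bound
import Cfsg.Agent.LAE65.TW.PermTools

/-!
# Subconstituents containing the alternating group
-/

set_option autoImplicit false

namespace Cfsg.Agent.LAE65.TW

open Subgroup

variable {G : Type*} [Group G] [Finite G]

/-- The action of `M` on the `d` points of its subconstituent, containing the alternating group. -/
structure AltAct (P : MPair G) (d : ℕ) where
  /-- The action. -/
  phi : ↥P.M →* Equiv.Perm (Fin d)
  /-- The point with stabilizer `M ⊓ N`. -/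
  pt : Fin d
  stab : ∀ m : ↥P.M, phi m pt = pt ↔ (m : G) ∈ P.N
  alt : alternatingGroup (Fin d) ≤ phi.range
  idx : (P.M ⊓ P.N).relIndex P.M = d

theorem relIndex_dvd_of_normalized {J K H : Subgroup G} (hKH : K ≤ H)
    (hJ : H ≤ Subgroup.normalizer (J : Set G)) : J.relIndex K ∣ J.relIndex H := by
  haveI : ((J ⊓ H).subgroupOf H).Normal :=
    (normal_subgroupOf_iff_le_normalizer inf_le_right).mpr
      (Coprime.le_normalizer_inf hJ le_normalizer)
  have h := relIndex_dvd_index_of_normal ((J ⊓ H).subgroupOf H) (K.subgroupOf H)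
  rw [relIndex_subgroupOf hKH] at h
  refine Dvd.dvd.trans (dvd_of_eq ?_) (h.trans (dvd_of_eq (inf_relIndex_right J H)))
  rw [← inf_relIndex_right J K, ← inf_relIndex_right (J ⊓ H) K, inf_assoc, inf_eq_right.mpr hKH]

/-- `H` has no action of degree `d` containing the alternating group. -/
def NoBig (d : ℕ) (H : Subgroup G) : Prop :=
  ∀ f : ↥H →* Equiv.Perm (Fin d), ¬ alternatingGroup (Fin d) ≤ f.range

omit [Finite G] in
theorem noBig_bot {d : ℕ} (h5 : 5 ≤ d) : NoBig d (⊥ : Subgroup G) := by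
  intro f hf
  haveI : Nontrivial ↥(alternatingGroup (Fin d)) :=
    alternatingGroup.nontrivial_of_three_le_card (by simp; omega)
  have h1 : f.range = ⊥ := by
    rw [eq_bot_iff]
    rintro _ ⟨x, rfl⟩
    rw [Subsingleton.elim x 1, map_one]
    exact one_mem _
  exact (Subgroup.nontrivial_iff_ne_bot _).mp ‹_› (le_bot_iff.mp (h1 ▸ hf))

theorem NoBig.extend {d : ℕ} (h5 : 5 ≤ d) {K H : Subgroup G} (hK : NoBig d K) (hKH : K ≤ H)
    (hn : H ≤ Subgroup.normalizer (K : Set G)) (hsmall : 2 * K.relIndex H < d.factorial) :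
    NoBig d H := by
  intro f hf
  haveI := (normal_subgroupOf_iff_le_normalizer hKH).mpr hn
  haveI : Nontrivial (Fin d) := Fin.nontrivial_iff_two_le.mpr (by omega)
  rcases map_dichotomy (by simpa using h5) f hf (K.subgroupOf H) with h | h
  · have h1 := factorial_le_two_mul_card_of_alternating_le hf
    rw [Fintype.card_fin, ← Subgroup.index_ker f] at h1
    have h2 : f.ker.index ≤ K.relIndex H :=
      Nat.le_of_dvd (Nat.pos_of_ne_zero index_ne_zero_of_finite) (index_dvd_of_le h)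
    omega
  · refine hK (f.comp (inclusion hKH)) (h.trans (le_of_eq ?_))
    rw [MonoidHom.range_comp, inclusion_range]

theorem noBig_of_family {ι : Type*} {d e : ℕ} (h5 : 5 ≤ d) (he : 2 * e < d.factorial) (he0 : 0 < e)
    (f : ι → Subgroup G) (s : Finset ι) : ∀ H : Subgroup G,
    (∀ i, H ≤ Subgroup.normalizer (f i : Set G)) → (∀ i, (f i).relIndex H ∣ e) →
    H ⊓ s.inf f = ⊥ → NoBig d H := by
  classical
  induction s using Finset.induction_on with
  | empty =>
    intro H _ _ h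
    rw [Finset.inf_empty, inf_top_eq] at h
    exact h ▸ noBig_bot h5
  | @insert i s _ ih =>
    intro H hn hdvd h
    refine (ih (H ⊓ f i) (fun j => inf_le_left.trans (hn j))
      (fun j => (relIndex_dvd_of_normalized inf_le_left (hn j)).trans (hdvd j)) ?_).extend h5
      inf_le_left (Coprime.le_normalizer_inf le_normalizer (hn i)) ?_
    · rw [inf_assoc, ← Finset.inf_insert, h]
    · have := Nat.le_of_dvd he0 (hdvd i)
      rw [inf_relIndex_left]
      omega

theorem two_mul_factorial_pred_lt {d : ℕ} (h : 3 ≤ d) :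
    2 * (d - 1).factorial < d.factorial := by
  rw [← Nat.mul_factorial_pred (by omega : d ≠ 0)]
  exact Nat.mul_lt_mul_of_pos_right (by omega) (Nat.factorial_pos _)

theorem two_pow_lt_factorial_pred {d : ℕ} (h : 6 ≤ d) : 2 ^ d < (d - 1).factorial := by
  induction d, h using Nat.le_induction with
  | base => decide
  | succ n hn ih =>
    rw [Nat.add_sub_cancel, ← Nat.mul_factorial_pred (by omega : n ≠ 0), pow_succ, mul_comm]
    exact Nat.mul_lt_mul_of_le_of_lt (by omega) ih (by omega)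

theorem mem_map_conj {X : Subgroup G} {m x : G} :
    x ∈ X.map (MulAut.conj m).toMonoidHom ↔ m⁻¹ * x * m ∈ X := by
  constructor
  · rintro ⟨y, hy, rfl⟩
    simpa [MulAut.conj_apply, mul_assoc] using hy
  · intro h
    exact ⟨_, h, by simp [MulAut.conj_apply, mul_assoc]⟩

namespace MPair

variable (P : MPair G)

/-- `M ⊓ N` normalizes `A₁ ⊓ B₁`. -/
theorem le_normalizer_inf_A1 :
    P.M ⊓ P.N ≤ Subgroup.normalizer ((P.A1 ⊓ P.swap.A1 : Subgroup G) : Set G) :=
  Coprime.le_normalizer_inf (inf_le_left.trans P.M_le_normalizer_A1)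
    (inf_le_right.trans P.swap.M_le_normalizer_A1)

theorem le_normalizer_conj_inf {m : G} (hm : m ∈ P.M) :
    P.A1 ≤ Subgroup.normalizer
      (((P.A1 ⊓ P.swap.A1).map (MulAut.conj m).toMonoidHom : Subgroup G) : Set G) := by
  have hA : P.A1.map (MulAut.conj m).toMonoidHom = P.A1 :=
    Components.map_conj_eq_iff_mem_normalizer.mpr (P.M_le_normalizer_A1 hm)
  refine le_trans ?_ (le_normalizer_map _)
  exact hA.ge.trans (Subgroup.map_mono ((le_inf P.A1_le P.A1_le').trans P.le_normalizer_inf_A1))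

theorem relIndex_conj_inf_dvd {d : ℕ} (hd : (P.M ⊓ P.N).relIndex P.M = d) {m : G} (hm : m ∈ P.M) :
    ((P.A1 ⊓ P.swap.A1).map (MulAut.conj m).toMonoidHom).relIndex P.A1 ∣ (d - 1).factorial := by
  have hA : P.A1.map (MulAut.conj m).toMonoidHom = P.A1 :=
    Components.map_conj_eq_iff_mem_normalizer.mpr (P.M_le_normalizer_A1 hm)
  calc _ = ((P.A1 ⊓ P.swap.A1).map (MulAut.conj m).toMonoidHom).relIndex
        (P.A1.map (MulAut.conj m).toMonoidHom) := by rw [hA]
    _ = (P.A1 ⊓ P.swap.A1).relIndex P.A1 :=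
      relIndex_map_map_of_injective _ _ (MulAut.conj m).injective
    _ ∣ _ := ?_
  exact P.relIndex_inf_A1_dvd hd

theorem noBig_of_le_A1 {d : ℕ} (hd : (P.M ⊓ P.N).relIndex P.M = d) (h5 : 5 ≤ d)
    (hA : P.A2 = ⊥) {H : Subgroup G} (hH : H ≤ P.A1) : NoBig d H := by
  haveI : Fintype ↥P.M := Fintype.ofFinite _
  refine noBig_of_family h5 (two_mul_factorial_pred_lt (by omega)) (Nat.factorial_pos _)
    (fun m : ↥P.M => (P.A1 ⊓ P.swap.A1).map (MulAut.conj (m : G)).toMonoidHom) Finset.univ H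
    (fun m => hH.trans (P.le_normalizer_conj_inf m.2))
    (fun m => (relIndex_dvd_of_normalized hH (P.le_normalizer_conj_inf m.2)).trans
      (P.relIndex_conj_inf_dvd hd m.2)) ?_
  rw [eq_bot_iff, ← hA]
  rintro x ⟨hx, hxi⟩
  refine mem_coreIn.mpr ⟨P.A1_le (hH hx), fun n hn => ?_⟩
  have := mem_map_conj.mp ((Finset.inf_le (f := fun m : ↥P.M =>
    (P.A1 ⊓ P.swap.A1).map (MulAut.conj (m : G)).toMonoidHom)
    (Finset.mem_univ (⟨n⁻¹, inv_mem hn⟩ : ↥P.M))) hxi)
  simpa using this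

theorem noBig_swap_A1 {d : ℕ} (hd : (P.M ⊓ P.N).relIndex P.M = d) (h5 : 5 ≤ d)
    (h : P.A2 = ⊥ ∨ P.swap.A2 = ⊥) : NoBig d P.swap.A1 := by
  rcases h with h | h
  · refine (P.noBig_of_le_A1 hd h5 h (inf_le_left : P.A1 ⊓ P.swap.A1 ≤ P.A1)).extend h5
      inf_le_right ((le_inf P.swap.A1_le' P.swap.A1_le).trans P.le_normalizer_inf_A1) ?_
    have h1 := P.swap.relIndex_inf_A1_dvd (P.relIndex_swap.trans hd)
    rw [inf_comm] at h1
    have h2 : (P.A1 ⊓ P.swap.A1).relIndex P.swap.A1 ≤ (d - 1).factorial :=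
      Nat.le_of_dvd (Nat.factorial_pos _) h1
    have := two_mul_factorial_pred_lt (d := d) (by omega)
    omega
  · exact P.swap.noBig_of_le_A1 (P.relIndex_swap.trans hd) h5 h le_rfl

end MPair

namespace AltAct

variable {P : MPair G} {d : ℕ}

theorem exists_phi_pt (a : AltAct P d) (h3 : 3 ≤ d) (i : Fin d) :
    ∃ m, a.phi m a.pt = i := by
  haveI := alternatingGroup.isPretransitive_of_three_le_card (α := Fin d) (by simpa using h3)
  obtain ⟨g, hg⟩ := MulAction.exists_smul_eq (alternatingGroup (Fin d)) a.pt i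
  obtain ⟨m, hm⟩ := a.alt g.2
  exact ⟨m, by rw [hm]; exact hg⟩

theorem phi_eq_one_iff (a : AltAct P d) (h3 : 3 ≤ d) (m : ↥P.M) :
    a.phi m = 1 ↔ (m : G) ∈ P.A1 := by
  constructor
  · intro h
    refine mem_coreIn.mpr ⟨m.2, fun n hn => mem_inf.mpr ⟨mul_mem (mul_mem hn m.2) (inv_mem hn),
      (a.stab (⟨n, hn⟩ * m * (⟨n, hn⟩ : ↥P.M)⁻¹)).mp ?_⟩⟩
    simp [h]
  · intro h
    refine Equiv.ext fun i => ?_
    obtain ⟨n, rfl⟩ := a.exists_phi_pt h3 i
    have h1 := (a.stab (n⁻¹ * m * n⁻¹⁻¹)).mpr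
      (mem_inf.mp ((mem_coreIn.mp h).2 _ (inv_mem n.2))).2
    have h2 := congrArg (a.phi n) h1
    simpa [map_mul, map_inv, Equiv.Perm.mul_apply] using h2

theorem ker_phi (a : AltAct P d) (h3 : 3 ≤ d) : a.phi.ker = P.A1.subgroupOf P.M :=
  Subgroup.ext fun m => a.phi_eq_one_iff h3 m

/-- The induced action of `M ⊓ N` on the remaining points. -/
theorem exists_res (a : AltAct P d) (h3 : 3 ≤ d) :
    ∃ r : ↥(P.M ⊓ P.N) →* Equiv.Perm (Fin (d - 1)),
      (∀ x, r x = 1 ↔ (x : G) ∈ P.A1) ∧ alternatingGroup (Fin (d - 1)) ≤ r.range := by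
  let e : {i : Fin d // i ≠ a.pt} ≃ Fin (d - 1) := Fintype.equivFinOfCardEq (by simp)
  let ι : ↥(P.M ⊓ P.N) →* ↥P.M := inclusion inf_le_left
  have hfix : ∀ δ, a.phi (ι δ) a.pt = a.pt := fun δ => (a.stab (ι δ)).mpr (mem_inf.mp δ.2).2
  have hp : ∀ δ, ∀ i, a.phi (ι δ) i ≠ a.pt ↔ i ≠ a.pt := by
    intro δ i
    conv_lhs => rw [← hfix δ]
    simp
  let r : ↥(P.M ⊓ P.N) →* Equiv.Perm (Fin (d - 1)) :=
    { toFun := fun δ => e.permCongr ((a.phi (ι δ)).subtypePerm (hp δ))
      map_one' := by ext; simp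
      map_mul' := fun x y => by
        ext i
        simp [Equiv.permCongr_apply, Equiv.Perm.subtypePerm_apply] }
  refine ⟨r, fun x => ?_, ?_⟩
  · refine Iff.trans ?_ (a.phi_eq_one_iff h3 (ι x))
    constructor
    · intro h
      refine Equiv.ext fun i => ?_
      by_cases hi : i = a.pt
      · rw [hi]; exact hfix x
      · have h1 := DFunLike.congr_fun h (e ⟨i, hi⟩)
        simp only [r, MonoidHom.coe_mk, OneHom.coe_mk, Equiv.permCongr_apply, Equiv.symm_apply_apply,
          Equiv.Perm.subtypePerm_apply, Equiv.Perm.one_apply] at h1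
        simpa using congrArg Subtype.val (e.injective h1)
    · intro h
      refine Equiv.ext fun i => ?_
      simp [r, h, Equiv.permCongr_apply, Equiv.Perm.subtypePerm_apply]
  · intro g hg
    set g' := e.symm.permCongr g with hg'
    have hs : Equiv.Perm.ofSubtype g' ∈ alternatingGroup (Fin d) := by
      rw [Equiv.Perm.mem_alternatingGroup, Equiv.Perm.sign_ofSubtype, hg',
        Equiv.Perm.sign_permCongr]
      exact Equiv.Perm.mem_alternatingGroup.mp hg
    obtain ⟨m, hm⟩ := a.alt hs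
    have hmN : (m : G) ∈ P.N := (a.stab m).mp (by
      rw [hm, Equiv.Perm.ofSubtype_apply_of_not_mem]; simp)
    refine ⟨⟨m, mem_inf.mpr ⟨m.2, hmN⟩⟩, Equiv.ext fun i => ?_⟩
    have h1 : a.phi (ι ⟨m, mem_inf.mpr ⟨m.2, hmN⟩⟩) = Equiv.Perm.ofSubtype g' := hm
    apply e.symm.injective
    simp [r, Equiv.permCongr_apply, Equiv.Perm.subtypePerm_apply, h1, hg',
      Subtype.ext_iff]

/-- `M ⊓ N` moves every point other than `pt` to every other. -/
theorem exists_inf_smul (a : AltAct P d) (h4 : 4 ≤ d) {i j : Fin d} (hi : i ≠ a.pt)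
    (hj : j ≠ a.pt) : ∃ δ : ↥P.M, (δ : G) ∈ P.N ∧ a.phi δ i = j := by
  rcases eq_or_ne i j with rfl | hij
  · exact ⟨1, one_mem _, by simp⟩
  obtain ⟨k, hk⟩ : ∃ k, k ∉ ({a.pt, i, j} : Finset (Fin d)) := by
    refine Finset.exists_mem_notMem_of_card_lt_card (t := Finset.univ) ?_ |>.imp fun _ h => h.2
    calc ({a.pt, i, j} : Finset (Fin d)).card ≤ 3 := Finset.card_le_three
      _ < _ := by simp; omega
  simp only [Finset.mem_insert, Finset.mem_singleton, not_or] at hk
  have hg : Equiv.swap j k * Equiv.swap i k ∈ alternatingGroup (Fin d) := by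
    rw [Equiv.Perm.mem_alternatingGroup, map_mul, Equiv.Perm.sign_swap (Ne.symm hk.2.2),
      Equiv.Perm.sign_swap (Ne.symm hk.2.1)]
    rfl
  obtain ⟨m, hm⟩ := a.alt hg
  refine ⟨m, (a.stab m).mp ?_, ?_⟩
  · rw [hm, Equiv.Perm.mul_apply, Equiv.swap_apply_of_ne_of_ne (Ne.symm hi) (Ne.symm hk.1),
      Equiv.swap_apply_of_ne_of_ne (Ne.symm hj) (Ne.symm hk.1)]
  · rw [hm, Equiv.Perm.mul_apply, Equiv.swap_apply_left, Equiv.swap_apply_right]

/-- A subgroup of `M` containing `M ⊓ N` and an element outside `N` is `M`. -/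
theorem le_of_inf_le (a : AltAct P d) (h4 : 4 ≤ d) {H : Subgroup G} (hD : P.M ⊓ P.N ≤ H)
    {x : G} (hxM : x ∈ P.M) (hxH : x ∈ H) (hxN : x ∉ P.N) : P.M ≤ H := by
  intro m hm
  set x' : ↥P.M := ⟨x, hxM⟩
  set m' : ↥P.M := ⟨m, hm⟩
  have hx : a.phi x' a.pt ≠ a.pt := fun h => hxN ((a.stab x').mp h)
  by_cases hmN : m ∈ P.N
  · exact hD (mem_inf.mpr ⟨hm, hmN⟩)
  obtain ⟨δ, hδN, hδ⟩ := a.exists_inf_smul h4 hx (fun h => hmN ((a.stab m').mp h))
  have h1 : ((x'⁻¹ * δ⁻¹ * m' : ↥P.M) : G) ∈ P.N := (a.stab _).mp (by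
    simp only [map_mul, map_inv, Equiv.Perm.mul_apply]
    rw [← hδ]
    simp)
  have h2 : m = (δ : G) * x * ((x'⁻¹ * δ⁻¹ * m' : ↥P.M) : G) := by simp [x', m', mul_assoc]
  rw [h2]
  exact mul_mem (mul_mem (hD (mem_inf.mpr ⟨δ.2, hδN⟩)) hxH) (hD (mem_inf.mpr ⟨SetLike.coe_mem _, h1⟩))

/-- A subgroup of `M ⊓ N` normalized by it and not in `A₁` fixes only `pt`. -/
theorem eq_pt_of_fixed (a : AltAct P d) (h4 : 4 ≤ d) {X : Subgroup G} (hX : X ≤ P.M ⊓ P.N)
    (hn : P.M ⊓ P.N ≤ Subgroup.normalizer (X : Set G)) (hXA : ¬ X ≤ P.A1) {i : Fin d}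
    (hfix : ∀ x : ↥P.M, (x : G) ∈ X → a.phi x i = i) : i = a.pt := by
  by_contra hi
  refine hXA fun x hx => ?_
  have hxM : x ∈ P.M := (mem_inf.mp (hX hx)).1
  refine (a.phi_eq_one_iff (by omega) ⟨x, hxM⟩).mp (Equiv.ext fun j => ?_)
  by_cases hj : j = a.pt
  · rw [hj]; exact (a.stab _).mpr (mem_inf.mp (hX hx)).2
  obtain ⟨δ, hδN, hδ⟩ := a.exists_inf_smul h4 hi hj
  have h1 := hfix (δ⁻¹ * ⟨x, hxM⟩ * δ⁻¹⁻¹)
    ((mem_normalizer_iff.mp (hn (inv_mem (mem_inf.mpr ⟨δ.2, hδN⟩))) x).mp hx)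
  have h2 := congrArg (a.phi δ) h1
  simpa [map_mul, map_inv, Equiv.Perm.mul_apply, hδ] using h2

/-- The paired subconstituent also contains the alternating group. -/
theorem nonempty_swap (a : AltAct P d) (h5 : 5 ≤ d) (h : P.A2 = ⊥ ∨ P.swap.A2 = ⊥) :
    Nonempty (AltAct P.swap d) := by
  classical
  haveI : Nontrivial (Fin d) := Fin.nontrivial_iff_two_le.mpr (by omega)
  set D' : Subgroup ↥P.N := (P.N ⊓ P.M).subgroupOf P.N
  have hcard : Nat.card (↥P.N ⧸ D') = d := P.relIndex_swap.trans a.idx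
  let e : (↥P.N ⧸ D') ≃ Fin d := (Finite.equivFin _).trans (finCongr hcard)
  let f : ↥P.N →* Equiv.Perm (Fin d) :=
    e.permCongrHom.toMonoidHom.comp (MulAction.toPermHom ↥P.N (↥P.N ⧸ D'))
  have hker : f.ker = P.swap.A1.subgroupOf P.N := by
    have h1 : f.ker = (MulAction.toPermHom ↥P.N (↥P.N ⧸ D')).ker := by
      ext x; simp [f, MonoidHom.mem_ker, MulEquiv.map_eq_one_iff]
    rw [h1, ← normalCore_eq_ker]
    exact (comap_map_eq_self_of_injective P.N.subtype_injective _).symm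
  obtain ⟨ψ⟩ := P.equiv
  have hB : P.swap.A1.subgroupOf P.N ≤ (a.phi.comp ψ.symm.toMonoidHom).ker := by
    haveI : (P.swap.A1.subgroupOf P.N).Normal :=
      (normal_subgroupOf_iff_le_normalizer P.swap.A1_le).mpr P.swap.M_le_normalizer_A1
    refine (map_dichotomy (by simpa using h5) _ ?_ _).resolve_right fun hb =>
      P.noBig_swap_A1 a.idx h5 h
        ((a.phi.comp ψ.symm.toMonoidHom).comp (inclusion P.swap.A1_le)) (hb.trans (le_of_eq ?_))
    · rw [MonoidHom.range_comp, MonoidHom.range_eq_top.mpr ψ.symm.surjective,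
        ← MonoidHom.range_eq_map]
      exact a.alt
    · rw [MonoidHom.range_comp]
      exact congrArg (Subgroup.map _) (inclusion_range P.swap.A1_le).symm
  have hrange : Nat.card (a.phi.comp ψ.symm.toMonoidHom).range ≤ Nat.card f.range := by
    rw [← index_ker, ← index_ker, hker]
    exact Nat.le_of_dvd (Nat.pos_of_ne_zero index_ne_zero_of_finite) (index_dvd_of_le hB)
  refine ⟨{ phi := f, pt := e ((1 : ↥P.N) : ↥P.N ⧸ D'), stab := ?_, alt := ?_,
            idx := P.relIndex_swap.trans a.idx }⟩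
  · intro (m : ↥P.N)
    show e (m • e.symm (e ((1 : ↥P.N) : ↥P.N ⧸ D'))) = e ((1 : ↥P.N) : ↥P.N ⧸ D') ↔ (m : G) ∈ P.M
    rw [Equiv.symm_apply_apply, EmbeddingLike.apply_eq_iff_eq, MulAction.Quotient.smul_coe,
      QuotientGroup.eq]
    simp [D', mem_subgroupOf]
  · refine Equiv.Perm.alternatingGroup_le_of_index_le_two ?_
    have h1 : (Fintype.card (Fin d)).factorial ≤ 2 * Nat.card f.range :=
      (factorial_le_two_mul_card_of_alternating_le (X := (a.phi.comp ψ.symm.toMonoidHom).range)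
        (by rw [MonoidHom.range_comp, MonoidHom.range_eq_top.mpr ψ.symm.surjective,
          ← MonoidHom.range_eq_map]; exact a.alt)).trans (Nat.mul_le_mul_left 2 hrange)
    have h2 := f.range.card_mul_index
    rw [Nat.card_perm, Nat.card_fin] at h2
    rw [Fintype.card_fin] at h1
    have h3 : 0 < Nat.card f.range := Nat.card_pos
    by_contra hlt
    push Not at hlt
    have := Nat.mul_le_mul_left (Nat.card f.range) hlt
    have h4 : Nat.card f.range * 3 ≤ d.factorial := this.trans (le_of_eq h2)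
    omega

end AltAct

end Cfsg.Agent.LAE65.TW
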