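import Cfsg.Agent.LAE65.TW.AltIso

/-!
# One of the second cores is trivial when the subconstituent contains the alternating group
-/

set_option autoImplicit false

namespace Cfsg.Agent.LAE65.TW

open Subgroup

variable {G : Type*} [Group G] [Finite G]

namespace MPair

variable (P : MPair G)

/-- If `O_r(M ⊓ N)` lies in `A₁` then it is trivial. -/
theorem pCoreOf_inf_eq_bot {r : ℕ} [Fact r.Prime] (hZA : pCoreOf r (P.M ⊓ P.N) ≤ P.A1) :
    pCoreOf r (P.M ⊓ P.N) = ⊥ := by
  set Z := pCoreOf r (P.M ⊓ P.N) with hZdef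
  have hA1D : P.A1 ≤ P.M ⊓ P.N := le_inf P.A1_le P.A1_le'
  have hZe : Z = pCoreOf r P.A1 := le_antisymm
    ((SubnormalIn.of_le_normalizer hZA (hA1D.trans (le_normalizer_pCoreOf r _))).le_pCoreOf
      (isPGroup_pCoreOf r _))
    ((SubnormalIn.of_le_normalizer hA1D (inf_le_left.trans P.M_le_normalizer_A1)).pCoreOf_le r)
  have hZM : Z ≤ P.M := hZA.trans P.A1_le
  have hZn : P.M ≤ Subgroup.normalizer (Z : Set G) := by
    rw [hZe]
    exact P.M_le_normalizer_A1.trans (normalizer_le_normalizer_pCoreOf r _)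
  obtain ⟨ψ⟩ := P.equiv
  by_contra hne
  set Zy := ((Z.subgroupOf P.M).map ψ.toMonoidHom).map P.N.subtype with hZy
  have hZyN : Zy ≤ P.N := map_subtype_le _
  have hZyn : P.N ≤ Subgroup.normalizer (Zy : Set G) := by
    have h1 : ((Z.subgroupOf P.M).map ψ.toMonoidHom).Normal :=
      ((normal_subgroupOf_iff_le_normalizer hZM).mpr hZn).map _ ψ.surjective
    refine le_trans (le_of_eq ?_) (le_normalizer_map P.N.subtype)
    rw [normalizer_eq_top_iff.mpr h1, ← MonoidHom.range_eq_map, range_subtype]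
  have hZyp : IsPGroup r ↥Zy :=
    (((isPGroup_pCoreOf r _).of_equiv (subgroupOfEquivOfLe hZM).symm).map _).map _
  have hcard : Nat.card Zy = Nat.card Z := by
    rw [hZy, card_map_of_injective P.N.subtype_injective, card_map_of_injective ψ.injective,
      Nat.card_congr (subgroupOfEquivOfLe hZM).toEquiv]
  have hsub : Zy ⊓ P.M ≤ Z :=
    (SubnormalIn.of_le_normalizer (le_inf inf_le_right (inf_le_left.trans hZyN))
      (Coprime.le_normalizer_inf (inf_le_right.trans hZyn)
        (inf_le_left.trans le_normalizer))).le_pCoreOf (hZyp.to_le inf_le_left)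
  have h := le_of_normalizer_inf_le (isPGroup_pCoreOf r _) hZyp
    ((hZA.trans P.A1_le').trans hZyn) (by rw [P.normalizer_eq hne hZM hZn, inf_comm]; exact hsub)
  have he : Zy = Z := eq_of_le_of_card_ge h hcard.ge
  exact hne (P.eq_bot_of_normalized hZM hZn (he ▸ hZyn))

end MPair

namespace AltAct

variable {P : MPair G} {d : ℕ}

theorem A2_eq_bot_or (a : AltAct P d) (h6 : 6 ≤ d) : P.A2 = ⊥ ∨ P.swap.A2 = ⊥ := by
  by_contra h
  obtain ⟨hA, hB⟩ := not_or.mp h
  obtain ⟨p, hp, hpg, -⟩ := P.thompson_wielandt hA hB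
  haveI : Fact p.Prime := ⟨hp⟩
  have h5 : 5 ≤ Fintype.card (Fin (d - 1)) := by rw [Fintype.card_fin]; omega
  obtain ⟨r, hr, hralt⟩ := a.exists_res (by omega)
  set Z := pCoreOf p (P.M ⊓ P.N) with hZ
  have hn : (Z.subgroupOf (P.M ⊓ P.N)).Normal :=
    (normal_subgroupOf_iff_le_normalizer (pCoreOf_le _ _)).mpr (le_normalizer_pCoreOf _ _)
  have hZA : Z ≤ P.A1 := by
    rcases map_dichotomy h5 r hralt (Z.subgroupOf (P.M ⊓ P.N)) with h1 | h1
    · exact fun x hx => (hr _).mp (h1 (show (⟨x, pCoreOf_le _ _ hx⟩ : ↥(P.M ⊓ P.N)) ∈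
        Z.subgroupOf (P.M ⊓ P.N) from hx))
    · exfalso
      have hp' : IsPGroup p ↥(alternatingGroup (Fin (d - 1))) :=
        (((isPGroup_pCoreOf p _).of_equiv (subgroupOfEquivOfLe (pCoreOf_le _ _)).symm).map r).to_le
          h1
      haveI : Nontrivial ↥(alternatingGroup (Fin (d - 1))) :=
        alternatingGroup.nontrivial_of_three_le_card (by simp; omega)
      have h2 := hp'.center_nontrivial
      rw [alternatingGroup.center_eq_bot (by simp; omega)] at h2
      exact (Subgroup.nontrivial_iff_ne_bot _).mp h2 rfl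
  refine hA (le_bot_iff.mp (le_trans ?_ (P.pCoreOf_inf_eq_bot hZA).le))
  exact (SubnormalIn.of_le_normalizer (le_inf P.A2_le P.A2_le')
    (inf_le_left.trans P.M_le_normalizer_A2)).le_pCoreOf (hpg.to_le le_sup_left)

end AltAct

end Cfsg.Agent.LAE65.TW
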