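import Cfsg.Agent.LAE65.TW.AltKernel

/-!
# The point stabilizer when the subconstituent is alternating or symmetric and unfaithful
-/

set_option autoImplicit false

namespace Cfsg.Agent.LAE65.TW

open Subgroup Equiv
open scoped commutatorElement

variable {G : Type*} [Group G] [Finite G] {P : MPair G} {d : ℕ}

/-- Sign decides membership in a subgroup of a product containing both alternating groups. -/
theorem mem_prod_of_sign {m n : ℕ} {L : Subgroup (Perm (Fin m) × Perm (Fin n))}
    (h1 : ∀ x ∈ alternatingGroup (Fin m), (x, 1) ∈ L)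
    (h2 : ∀ y ∈ alternatingGroup (Fin n), ((1 : Perm (Fin m)), y) ∈ L)
    {x x' : Perm (Fin m)} {y y' : Perm (Fin n)} (hL : (x, y) ∈ L)
    (hx : Perm.sign x' = Perm.sign x) (hy : Perm.sign y' = Perm.sign y) : (x', y') ∈ L := by
  have e1 := h1 (x' * x⁻¹) (by
    rw [Perm.mem_alternatingGroup, map_mul, map_inv, hx, mul_inv_cancel])
  have e2 := h2 (y' * y⁻¹) (by
    rw [Perm.mem_alternatingGroup, map_mul, map_inv, hy, mul_inv_cancel])
  simpa using mul_mem (mul_mem e1 e2) hL

theorem range_index_two_eq_alternating {d : ℕ} {X : Subgroup (Perm (Fin d))} (h : X.index = 2) :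
    X = alternatingGroup (Fin d) :=
  Perm.eq_alternatingGroup_of_index_eq_two h

namespace AltAct

/-- `M` embeds in `S_d × S_{d-1}`, with image containing both alternating groups. -/
theorem exists_embedding (a : AltAct P d) (b : AltAct P.swap d) (h6 : 6 ≤ d)
    (hne : P.A1 ≠ ⊥) (hC : P.A1 ⊓ P.swap.A1 = ⊥) :
    ∃ Θ : ↥P.M →* Perm (Fin d) × Perm (Fin (d - 1)),
      Function.Injective Θ ∧ (∀ m, (Θ m).1 = a.phi m) ∧
      (∀ x ∈ alternatingGroup (Fin d), (x, 1) ∈ Θ.range) ∧
      (∀ y ∈ alternatingGroup (Fin (d - 1)), ((1 : Perm (Fin d)), y) ∈ Θ.range) := by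
  classical
  have h5' : 5 ≤ Fintype.card (Fin d) := by rw [Fintype.card_fin]; omega
  have h5 : 5 ≤ Fintype.card (Fin (d - 1)) := by rw [Fintype.card_fin]; omega
  have hA1D : P.A1 ≤ P.M ⊓ P.N := le_inf P.A1_le P.A1_le'
  have hB1D : P.swap.A1 ≤ P.M ⊓ P.N := le_inf P.swap.A1_le' P.swap.A1_le
  obtain ⟨r', hr', hralt'⟩ := b.exists_res_swap (by omega)
  have hBC : P.swap.A1 ≤ Subgroup.centralizer (P.A1 : Set G) := by
    rw [← commutator_eq_bot_iff_le_centralizer, eq_bot_iff, ← hC]
    refine le_inf (Coprime.commutator_le_of_le_normalizer (hB1D.trans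
      (inf_le_left.trans P.M_le_normalizer_A1)) |> (fun h => (commutator_comm_le _ _).trans h)) ?_
    exact Coprime.commutator_le_of_le_normalizer (hA1D.trans
      (inf_le_right.trans P.swap.M_le_normalizer_A1))
  set K := P.M ⊓ Subgroup.centralizer (P.A1 : Set G) with hK
  have hKn : P.M ≤ Subgroup.normalizer (K : Set G) :=
    Coprime.le_normalizer_inf le_normalizer (Coprime.le_normalizer_centralizer P.M_le_normalizer_A1)
  -- the image of `A₁` in the paired subconstituent
  have halt : alternatingGroup (Fin (d - 1)) ≤ (P.A1.subgroupOf (P.M ⊓ P.N)).map r' := by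
    have hn : (P.A1.subgroupOf (P.M ⊓ P.N)).Normal :=
      (normal_subgroupOf_iff_le_normalizer hA1D).mpr (inf_le_left.trans P.M_le_normalizer_A1)
    refine (map_dichotomy h5 r' hralt' (P.A1.subgroupOf (P.M ⊓ P.N))).resolve_left fun h => ?_
    exact (a.not_le b h6 hne).2 fun x hx => (hr' _).mp (h (show (⟨x, hA1D hx⟩ : ↥(P.M ⊓ P.N)) ∈
      P.A1.subgroupOf (P.M ⊓ P.N) from hx))
  have hKD : ∀ x : ↥(P.M ⊓ P.N), (x : G) ∈ K → r' x = 1 := by
    intro x hx
    refine eq_one_of_commute_alternating (by rw [Fintype.card_fin]; omega) fun g hg => ?_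
    obtain ⟨t, ht, rfl⟩ := halt hg
    rw [← map_mul, ← map_mul]
    exact congrArg r' (Subtype.ext (mem_centralizer_iff.mp (mem_inf.mp hx).2 (t : G) ht))
  -- `K` is transitive
  have hKalt : alternatingGroup (Fin d) ≤ (K.subgroupOf P.M).map a.phi := by
    have hn : (K.subgroupOf P.M).Normal :=
      (normal_subgroupOf_iff_le_normalizer inf_le_left).mpr hKn
    refine (map_dichotomy h5' a.phi a.alt (K.subgroupOf P.M)).resolve_left fun h =>
      (a.not_le b h6 hne).1 fun x hx => ?_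
    exact (a.phi_eq_one_iff (by omega) ⟨x, (mem_inf.mp (hB1D hx)).1⟩).mp
      (h (show (⟨x, (mem_inf.mp (hB1D hx)).1⟩ : ↥P.M) ∈ K.subgroupOf P.M from
        mem_inf.mpr ⟨(mem_inf.mp (hB1D hx)).1, hBC hx⟩))
  have hdec : ∀ m : ↥P.M, ∃ δ : ↥(P.M ⊓ P.N), (m : G) * (δ : G)⁻¹ ∈ K := by
    intro m
    haveI := alternatingGroup.isPretransitive_of_three_le_card (α := Fin d) (by simp; omega)
    obtain ⟨g, hg⟩ := MulAction.exists_smul_eq (alternatingGroup (Fin d)) a.pt (a.phi m a.pt)
    obtain ⟨k, hk, hkg⟩ := hKalt g.2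
    have hkm : ((k⁻¹ * m : ↥P.M) : G) ∈ P.N := (a.stab _).mp (by
      rw [map_mul, map_inv, Perm.mul_apply, hkg]
      exact Equiv.Perm.inv_eq_iff_eq.mpr hg.symm)
    refine ⟨⟨_, mem_inf.mpr ⟨(k⁻¹ * m).2, hkm⟩⟩, ?_⟩
    simpa [mul_assoc] using mem_subgroupOf.mp hk
  choose δ hδ using hdec
  have huniq : ∀ (m : ↥P.M) (ε : ↥(P.M ⊓ P.N)), (m : G) * (ε : G)⁻¹ ∈ K → r' (δ m) = r' ε := by
    intro m ε hε
    have h : ((δ m * ε⁻¹ : ↥(P.M ⊓ P.N)) : G) ∈ K := by
      have := mul_mem (inv_mem (hδ m)) hε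
      simpa [mul_assoc] using this
    have h1 := hKD _ h
    rwa [map_mul, map_inv, mul_inv_eq_one] at h1
  let π : ↥P.M →* Perm (Fin (d - 1)) := MonoidHom.mk' (fun m => r' (δ m)) (fun m n => by
    rw [← map_mul]
    refine huniq _ _ ?_
    have h1 : (δ m : G) * ((n : G) * (δ n : G)⁻¹) * (δ m : G)⁻¹ ∈ K :=
      (mem_normalizer_iff.mp (hKn (mem_inf.mp (δ m).2).1) _).mp (hδ n)
    have h2 := mul_mem (hδ m) h1
    simpa [mul_assoc] using h2)
  have hπD : ∀ m : ↥P.M, ∀ hm : (m : G) ∈ P.N, π m = r' ⟨m, mem_inf.mpr ⟨m.2, hm⟩⟩ :=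
    fun m hm => huniq m _ (by simp)
  refine ⟨a.phi.prod π, ?_, fun m => rfl, ?_, ?_⟩
  · rw [injective_iff_map_eq_one]
    intro m hm
    have h1 : (m : G) ∈ P.A1 := (a.phi_eq_one_iff (by omega) m).mp (congrArg Prod.fst hm)
    have h2 := hπD m (P.A1_le' h1)
    rw [show π m = 1 from congrArg Prod.snd hm] at h2
    have h3 : (m : G) ∈ P.A1 ⊓ P.swap.A1 := mem_inf.mpr ⟨h1, (hr' _).mp h2.symm⟩
    rw [hC, mem_bot] at h3
    exact Subtype.ext h3
  · intro x hx
    obtain ⟨k, hk, rfl⟩ := hKalt hx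
    refine ⟨k, Prod.ext rfl ?_⟩
    exact (huniq k 1 (by simpa using mem_subgroupOf.mp hk)).trans (map_one _)
  · intro y hy
    obtain ⟨t, ht, rfl⟩ := halt hy
    refine ⟨⟨(t : G), (mem_inf.mp t.2).1⟩, Prod.ext ?_ ?_⟩
    · exact (a.phi_eq_one_iff (by omega) ⟨(t : G), (mem_inf.mp t.2).1⟩).mpr ht
    · exact (hπD ⟨(t : G), (mem_inf.mp t.2).1⟩ (mem_inf.mp t.2).2).trans rfl

/-- If the subconstituent is exactly alternating, so is the second factor. -/
theorem sign_snd_eq_one (a : AltAct P d) (b : AltAct P.swap d) (h6 : 6 ≤ d)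
    (hne : P.A1 ≠ ⊥) (hC : P.A1 ⊓ P.swap.A1 = ⊥)
    (Θ : ↥P.M →* Perm (Fin d) × Perm (Fin (d - 1))) (hΘi : Function.Injective Θ)
    (hΘ1 : ∀ m, (Θ m).1 = a.phi m)
    (hl : ∀ x ∈ alternatingGroup (Fin d), (x, 1) ∈ Θ.range)
    (hr : ∀ y ∈ alternatingGroup (Fin (d - 1)), ((1 : Perm (Fin d)), y) ∈ Θ.range)
    (hrange : a.phi.range = alternatingGroup (Fin d)) (m : ↥P.M) :
    Perm.sign (Θ m).2 = 1 := by
  classical
  by_contra hodd
  haveI : Nontrivial (Fin d) := Fin.nontrivial_iff_two_le.mpr (by omega)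
  haveI : Nontrivial (Fin (d - 1)) := Fin.nontrivial_iff_two_le.mpr (by omega)
  have h5' : 5 ≤ Fintype.card (Fin d) := by rw [Fintype.card_fin]; omega
  have h5 : 5 ≤ Fintype.card (Fin (d - 1)) := by rw [Fintype.card_fin]; omega
  have hall : ∀ y : Perm (Fin (d - 1)), ((1 : Perm (Fin d)), y) ∈ Θ.range := by
    intro y
    rcases Int.units_eq_one_or (Perm.sign y) with hy | hy
    · exact hr y hy
    · refine mem_prod_of_sign hl hr (x := (Θ m).1) (y := (Θ m).2) ⟨m, rfl⟩ ?_ ?_
      · have : a.phi m ∈ alternatingGroup (Fin d) := hrange ▸ ⟨m, rfl⟩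
        rw [map_one, hΘ1, Perm.mem_alternatingGroup.mp this]
      · rw [hy, (Int.units_eq_one_or _).resolve_left hodd]
  -- the order of `A₁`
  have hA : Nat.card P.A1 = (d - 1).factorial := by
    have hker := a.ker_phi (d := d) (by omega)
    have h1 : Nat.card (P.A1.subgroupOf P.M) = Nat.card P.A1 :=
      Nat.card_congr (subgroupOfEquivOfLe P.A1_le).toEquiv
    rw [← h1, ← hker]
    have h2 : Nat.card a.phi.ker = Nat.card (Perm (Fin (d - 1))) := by
      refine Nat.card_congr (Equiv.ofBijective (fun k => (Θ k.1).2) ⟨?_, ?_⟩)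
      · intro k k' hkk
        refine Subtype.ext (hΘi (Prod.ext ?_ hkk))
        rw [hΘ1, hΘ1, k.2, k'.2]
      · intro y
        obtain ⟨k, hk⟩ := hall y
        refine ⟨⟨k, ?_⟩, congrArg Prod.snd hk⟩
        rw [MonoidHom.mem_ker, ← hΘ1, hk]
    rw [h2, Nat.card_perm, Nat.card_fin]
  -- the order of `B₁`
  have hMcard : 2 * Nat.card P.M = d.factorial * Nat.card P.A1 := by
    have h1 := a.phi.ker.card_mul_index
    rw [index_ker, hrange, a.ker_phi (by omega),
      Nat.card_congr (subgroupOfEquivOfLe P.A1_le).toEquiv] at h1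
    have h2 := two_mul_nat_card_alternatingGroup (α := Fin d)
    rw [Nat.card_perm, Nat.card_fin] at h2
    rw [← h1, ← h2]; ring
  have hD : 2 * Nat.card ↥(P.M ⊓ P.N) = (d - 1).factorial * Nat.card P.A1 := by
    have h1 := relIndex_mul_relIndex ⊥ (P.M ⊓ P.N) P.M bot_le inf_le_left
    rw [relIndex_bot_left, relIndex_bot_left, a.idx] at h1
    rw [← h1, ← Nat.mul_factorial_pred (by omega : d ≠ 0)] at hMcard
    refine Nat.eq_of_mul_eq_mul_left (by omega : 0 < d) ?_
    linarith
  have hB : 2 * Nat.card P.swap.A1 = (d - 1).factorial := by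
    apply le_antisymm
    · have hdisj : P.swap.A1 ⊓ P.A1 = ⊥ := by rw [inf_comm]; exact hC
      have hcomm : P.swap.A1 ≤ Subgroup.centralizer (P.A1 : Set G) := by
        rw [← commutator_eq_bot_iff_le_centralizer, eq_bot_iff, ← hC]
        refine le_inf ((commutator_comm_le _ _).trans (Coprime.commutator_le_of_le_normalizer
          (P.swap.A1_le'.trans P.M_le_normalizer_A1))) ?_
        exact Coprime.commutator_le_of_le_normalizer
          (P.A1_le'.trans P.swap.M_le_normalizer_A1)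
      have hle : P.swap.A1 ⊔ P.A1 ≤ P.M ⊓ P.N :=
        sup_le (le_inf P.swap.A1_le' P.swap.A1_le) (le_inf P.A1_le P.A1_le')
      have h1 := Subgroup.card_le_of_le hle
      rw [card_sup_of_commute hcomm hdisj] at h1
      have h2 : 2 * Nat.card P.swap.A1 * Nat.card P.A1 ≤ (d - 1).factorial * Nat.card P.A1 := by
        rw [← hD]; linarith
      exact Nat.le_of_mul_le_mul_right h2 Nat.card_pos
    · obtain ⟨r, hr1, hr2⟩ := a.exists_res (by omega)
      have hB1D : P.swap.A1 ≤ P.M ⊓ P.N := le_inf P.swap.A1_le' P.swap.A1_le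
      have hn : (P.swap.A1.subgroupOf (P.M ⊓ P.N)).Normal :=
        (normal_subgroupOf_iff_le_normalizer hB1D).mpr
          (inf_le_right.trans P.swap.M_le_normalizer_A1)
      rcases map_dichotomy h5 r hr2 (P.swap.A1.subgroupOf (P.M ⊓ P.N)) with h | h
      · exact absurd (fun x hx => (hr1 _).mp (h (show (⟨x, hB1D hx⟩ : ↥(P.M ⊓ P.N)) ∈
          P.swap.A1.subgroupOf (P.M ⊓ P.N) from hx))) (a.not_le b h6 hne).1
      · have h1 := factorial_le_two_mul_card_of_alternating_le h
        rw [Fintype.card_fin] at h1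
        refine h1.trans (Nat.mul_le_mul_left 2 ?_)
        rw [← Nat.card_congr (subgroupOfEquivOfLe hB1D).toEquiv]
        exact Nat.le_of_dvd Nat.card_pos (Subgroup.card_map_dvd _ r)
  -- transport along `M ≃* N`
  obtain ⟨ψ⟩ := P.equiv
  have hfac : (d - 1).factorial * d = d.factorial := by
    rw [mul_comm]; exact Nat.mul_factorial_pred (by omega)
  set X := (P.swap.A1.subgroupOf P.N).map ψ.symm.toMonoidHom with hX
  have hNB : (P.swap.A1.subgroupOf P.N).Normal :=
    (normal_subgroupOf_iff_le_normalizer P.swap.A1_le).mpr P.swap.M_le_normalizer_A1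
  have hXn : X.Normal := hNB.map _ ψ.symm.surjective
  have hXcard : Nat.card X = Nat.card P.swap.A1 := by
    rw [hX, card_map_of_injective ψ.symm.injective]
    exact Nat.card_congr (subgroupOfEquivOfLe (show P.swap.A1 ≤ P.N from P.swap.A1_le)).toEquiv
  have hXA : X ≤ P.A1.subgroupOf P.M := by
    rw [← a.ker_phi (by omega)]
    refine (map_dichotomy h5' a.phi a.alt X).resolve_right fun h => ?_
    have h1 := factorial_le_two_mul_card_of_alternating_le h
    have h2 := Nat.le_of_dvd Nat.card_pos (Subgroup.card_map_dvd X a.phi)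
    rw [Fintype.card_fin] at h1
    have h3 : (d - 1).factorial * 2 ≤ (d - 1).factorial * d := Nat.mul_le_mul_left _ (by omega)
    have h4 := Nat.factorial_pos (d - 1)
    omega
  set Y := (P.A1.subgroupOf P.M).map ψ.toMonoidHom with hY
  have hYn : Y.Normal := ((normal_subgroupOf_iff_le_normalizer P.A1_le).mpr
    P.M_le_normalizer_A1).map _ ψ.surjective
  have hBY : P.swap.A1.subgroupOf P.N ≤ Y := fun x hx =>
    ⟨ψ.symm x, hXA ⟨x, hx, rfl⟩, ψ.apply_symm_apply x⟩
  have hYcard : Nat.card Y = (d - 1).factorial := by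
    rw [hY, card_map_of_injective ψ.injective, ← hA]
    exact Nat.card_congr (subgroupOfEquivOfLe P.A1_le).toEquiv
  let bphi : ↥P.N →* Perm (Fin d) := b.phi
  have hbker : bphi.ker = P.swap.A1.subgroupOf P.N := b.ker_phi (by omega)
  have hBcard : Nat.card ↥(P.swap.A1.subgroupOf P.N) = Nat.card P.swap.A1 :=
    Nat.card_congr (subgroupOfEquivOfLe (show P.swap.A1 ≤ P.N from P.swap.A1_le)).toEquiv
  rcases map_dichotomy h5' bphi b.alt Y with h | h
  · rw [hbker] at h
    have h1 := Subgroup.card_le_of_le h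
    have h2 := Nat.factorial_pos (d - 1)
    omega
  · have h1 := factorial_le_two_mul_card_of_alternating_le h
    have h2 := relIndex_mul_relIndex ⊥ bphi.ker Y bot_le (hbker ▸ hBY)
    rw [relIndex_bot_left, relIndex_bot_left, relIndex_ker, hbker, hBcard, hYcard, ← hB,
      mul_comm (Nat.card P.swap.A1)] at h2
    have h3 := Nat.eq_of_mul_eq_mul_right Nat.card_pos h2
    rw [Fintype.card_fin, h3] at h1
    have h4 : (3 : ℕ).factorial ≤ d.factorial := Nat.factorial_le (by omega)
    simp [Nat.factorial] at h4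
    omega

/-- The structure of `M`. -/
theorem structure_M (a : AltAct P d) (h6 : 6 ≤ d) (hne : P.A1 ≠ ⊥)
    (h : P.A2 = ⊥ ∨ P.swap.A2 = ⊥) :
    (a.phi.range.index = 2 ∧
        Nonempty (↥P.M ≃* alternatingGroup (Fin d) × alternatingGroup (Fin (d - 1)))) ∨
      (a.phi.range = ⊤ ∧
        (Nonempty (↥P.M ≃* Perm (Fin d) × Perm (Fin (d - 1))) ∨
         Nonempty (↥P.M ≃* Perm (Fin d) × alternatingGroup (Fin (d - 1))) ∨
         Nonempty (↥P.M ≃* ((Perm.sign.comp (MonoidHom.fst (Perm (Fin d)) (Perm (Fin (d - 1))))) *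
           (Perm.sign.comp (MonoidHom.snd (Perm (Fin d)) (Perm (Fin (d - 1)))))).ker))) := by
  classical
  obtain ⟨b⟩ := a.nonempty_swap (by omega) h
  have hC : P.A1 ⊓ P.swap.A1 = ⊥ := by
    rcases h with h | h
    · exact a.inf_A1_eq_bot b h6 hne h
    · rw [inf_comm]
      exact b.inf_A1_eq_bot a h6 (fun h0 => (a.not_le b h6 hne).1 (h0.trans_le bot_le)) h
  obtain ⟨Θ, hinj, hfst, hl, hr⟩ := a.exists_embedding b h6 hne hC
  haveI : Nontrivial (Fin d) := Fin.nontrivial_iff_two_le.mpr (by omega)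
  have eqv : ∀ L : Subgroup (Perm (Fin d) × Perm (Fin (d - 1))), Θ.range = L →
      Nonempty (↥P.M ≃* L) := fun L hL =>
    ⟨(MonoidHom.ofInjective hinj).trans (MulEquiv.subgroupCongr hL)⟩
  have key : ∀ {x : Perm (Fin d)} {y : Perm (Fin (d - 1))}, (∃ m, Perm.sign (a.phi m) = Perm.sign x
      ∧ Perm.sign (Θ m).2 = Perm.sign y) → (x, y) ∈ Θ.range := fun ⟨m, h1, h2⟩ =>
    mem_prod_of_sign hl hr (x := (Θ m).1) (y := (Θ m).2) ⟨m, rfl⟩ (by rw [hfst, h1]) h2.symm
  by_cases hfull : ∃ m, Perm.sign (a.phi m) = -1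
  · right
    obtain ⟨m0, hm0⟩ := hfull
    have htop : a.phi.range = ⊤ := by
      rw [eq_top_iff]
      intro g _
      rcases Int.units_eq_one_or (Perm.sign g) with hg | hg
      · exact a.alt hg
      · obtain ⟨k, hk⟩ := a.alt (show g * (a.phi m0)⁻¹ ∈ alternatingGroup (Fin d) by
          rw [Perm.mem_alternatingGroup, map_mul, map_inv, hg, hm0, mul_inv_cancel])
        exact ⟨k * m0, by rw [map_mul, hk, inv_mul_cancel_right]⟩
    refine ⟨htop, ?_⟩
    by_cases hsame : ∀ m, Perm.sign (a.phi m) = Perm.sign (Θ m).2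
    · refine Or.inr (Or.inr (eqv _ (Subgroup.ext fun p => ?_)))
      rw [MonoidHom.mem_ker, MonoidHom.mul_apply]
      show p ∈ Θ.range ↔ Perm.sign p.1 * Perm.sign p.2 = 1
      constructor
      · rintro ⟨m, rfl⟩
        rw [hfst, hsame, Int.units_mul_self]
      · intro hp
        have hpp : Perm.sign p.1 = Perm.sign p.2 := by
          rw [← mul_left_inj (Perm.sign p.2), Int.units_mul_self]; exact hp
        rcases Int.units_eq_one_or (Perm.sign p.1) with h1 | h1
        · exact key ⟨1, by simp [h1], by simp [← hpp, h1]⟩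
        · exact key ⟨m0, by rw [hm0, h1], by rw [← hsame, hm0, ← hpp, h1]⟩
    · push Not at hsame
      obtain ⟨m1, hm1⟩ := hsame
      by_cases hodd : ∃ m, Perm.sign (Θ m).2 = -1
      · left
        refine (eqv ⊤ ?_).map (fun e => e.trans Subgroup.topEquiv)
        rw [eq_top_iff]
        rintro ⟨x, y⟩ -
        obtain ⟨m2, hm2⟩ := hodd
        refine key ?_
        obtain ⟨ma, ha1, ha2⟩ : ∃ n, Perm.sign (a.phi n) = -1 ∧ Perm.sign (Θ n).2 = 1 := by
          rcases Int.units_eq_one_or (Perm.sign (Θ m0).2) with b0 | b0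
          · exact ⟨m0, hm0, b0⟩
          rcases Int.units_eq_one_or (Perm.sign (a.phi m1)) with a1 | a1
          · refine ⟨m0 * m1, ?_, ?_⟩
            · rw [map_mul, map_mul, hm0, a1, mul_one]
            · rw [map_mul, Prod.snd_mul, map_mul, b0,
                (Int.units_eq_one_or _).resolve_left fun h => hm1 (a1.trans h.symm),
                Int.units_mul_self]
          · exact ⟨m1, a1, (Int.units_eq_one_or _).resolve_right fun h => hm1 (a1.trans h.symm)⟩
        obtain ⟨mb, hb1, hb2⟩ : ∃ n, Perm.sign (a.phi n) = 1 ∧ Perm.sign (Θ n).2 = -1 := by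
          rcases Int.units_eq_one_or (Perm.sign (a.phi m2)) with a2 | a2
          · exact ⟨m2, a2, hm2⟩
          · refine ⟨ma * m2, ?_, ?_⟩
            · rw [map_mul, map_mul, ha1, a2, Int.units_mul_self]
            · rw [map_mul, Prod.snd_mul, map_mul, ha2, hm2, one_mul]
        rcases Int.units_eq_one_or (Perm.sign x) with hx | hx <;>
          rcases Int.units_eq_one_or (Perm.sign y) with hy | hy
        · exact ⟨1, by simp [hx], by simp [hy]⟩
        · exact ⟨mb, by rw [hb1, hx], by rw [hb2, hy]⟩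
        · exact ⟨ma, by rw [ha1, hx], by rw [ha2, hy]⟩
        · exact ⟨ma * mb, by rw [map_mul, map_mul, ha1, hb1, hx, mul_one],
            by rw [map_mul, Prod.snd_mul, map_mul, ha2, hb2, hy, one_mul]⟩
      · right; left
        push Not at hodd
        refine (eqv ((⊤ : Subgroup (Perm (Fin d))).prod (alternatingGroup (Fin (d - 1))))
          (Subgroup.ext fun p => ?_)).map
          (fun e => e.trans ((Subgroup.prodEquiv _ _).trans
            (MulEquiv.prodCongr Subgroup.topEquiv (MulEquiv.refl _))))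
        rw [Subgroup.mem_prod]
        constructor
        · rintro ⟨m, rfl⟩
          exact ⟨Subgroup.mem_top _, (Int.units_eq_one_or _).resolve_right (hodd m)⟩
        · rintro ⟨-, hp⟩
          have hp' : Perm.sign p.2 = 1 := hp
          rcases Int.units_eq_one_or (Perm.sign p.1) with h1 | h1
          · exact key ⟨1, by simp [h1], by simp [hp']⟩
          · exact key ⟨m0, by rw [hm0, h1],
              by rw [(Int.units_eq_one_or _).resolve_right (hodd m0), hp']⟩
  · left
    push Not at hfull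
    have hsgn : ∀ m, Perm.sign (a.phi m) = 1 := fun m =>
      (Int.units_eq_one_or _).resolve_right (hfull m)
    have hrange : a.phi.range = alternatingGroup (Fin d) :=
      le_antisymm (by rintro _ ⟨m, rfl⟩; exact hsgn m) a.alt
    refine ⟨by rw [hrange]; exact alternatingGroup.index_eq_two, ?_⟩
    refine (eqv ((alternatingGroup (Fin d)).prod (alternatingGroup (Fin (d - 1))))
      (Subgroup.ext fun p => ?_)).map (fun e => e.trans (Subgroup.prodEquiv _ _))
    rw [Subgroup.mem_prod]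
    constructor
    · rintro ⟨m, rfl⟩
      exact ⟨(hfst m).symm ▸ hsgn m,
        a.sign_snd_eq_one b h6 hne hC Θ hinj hfst hl hr hrange m⟩
    · rintro ⟨h1, h2⟩
      have h1' : Perm.sign p.1 = 1 := h1
      have h2' : Perm.sign p.2 = 1 := h2
      exact key ⟨1, by simp [h1'], by simp [h2']⟩

end AltAct

end Cfsg.Agent.LAE65.TW
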