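import Cfsg.Agent.LAE65.TW.AltAct

/-!
# The two first cores meet trivially when the subconstituent contains the alternating group
-/

set_option autoImplicit false

namespace Cfsg.Agent.LAE65.TW

open Subgroup
open scoped commutatorElement

variable {G : Type*} [Group G] [Finite G]

/-- A minimal subgroup of `A` normalized by `A`. -/
structure IsMinNormal (A T : Subgroup G) : Prop where
  le : T ≤ A
  norm : A ≤ Subgroup.normalizer (T : Set G)
  ne : T ≠ ⊥
  min : ∀ U ≤ T, A ≤ Subgroup.normalizer (U : Set G) → U ≠ ⊥ → U = T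

theorem exists_isMinNormal {A X : Subgroup G} (hX : X ≤ A)
    (hn : A ≤ Subgroup.normalizer (X : Set G)) (hne : X ≠ ⊥) :
    ∃ T, IsMinNormal A T ∧ T ≤ X := by
  obtain ⟨T, hT⟩ := exists_minimal_of_wellFoundedLT
    (fun U : Subgroup G => U ≤ X ∧ A ≤ Subgroup.normalizer (U : Set G) ∧ U ≠ ⊥)
    ⟨X, le_rfl, hn, hne⟩
  exact ⟨T, ⟨hT.1.1.trans hX, hT.1.2.1, hT.1.2.2, fun U hU h1 h2 =>
    le_antisymm hU (hT.2 ⟨hU.trans hT.1.1, h1, h2⟩ hU)⟩, hT.1.1⟩

theorem IsMinNormal.inf_eq_bot {A T X : Subgroup G} (hT : IsMinNormal A T)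
    (hX : A ≤ Subgroup.normalizer (X : Set G)) (h : ¬ T ≤ X) : T ⊓ X = ⊥ := by
  by_contra hne
  exact h ((hT.min _ inf_le_left (Coprime.le_normalizer_inf hT.norm hX) hne).ge.trans inf_le_right)

theorem IsMinNormal.le_centralizer {A T X : Subgroup G} (hT : IsMinNormal A T) (hX : X ≤ A)
    (hn : A ≤ Subgroup.normalizer (X : Set G)) (h : ¬ T ≤ X) :
    X ≤ Subgroup.centralizer (T : Set G) := by
  rw [← commutator_eq_bot_iff_le_centralizer, eq_bot_iff, ← hT.inf_eq_bot hn h]
  refine le_inf ?_ (Coprime.commutator_le_of_le_normalizer (hT.le.trans hn))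
  rw [commutator_comm]
  exact Coprime.commutator_le_of_le_normalizer (hX.trans hT.norm)

theorem IsMinNormal.map_conj {A T : Subgroup G} (hT : IsMinNormal A T) {m : G}
    (hm : m ∈ Subgroup.normalizer (A : Set G)) :
    IsMinNormal A (T.map (MulAut.conj m).toMonoidHom) := by
  have hA : A.map (MulAut.conj m).toMonoidHom = A :=
    Components.map_conj_eq_iff_mem_normalizer.mpr hm
  refine ⟨hA ▸ Subgroup.map_mono hT.le, ?_, ?_, ?_⟩
  · exact hA.ge.trans ((Subgroup.map_mono hT.norm).trans (le_normalizer_map _))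
  · exact fun h => hT.ne ((map_eq_bot_iff_of_injective _ (MulAut.conj m).injective).mp h)
  · intro U hU hUn hUne
    have hU' : U.comap (MulAut.conj m).toMonoidHom = T := by
      refine hT.min _ ?_ ?_ ?_
      · intro x hx
        exact (Subgroup.mem_map_iff_mem (MulAut.conj m).injective).mp (hU hx)
      · intro x hx
        rw [mem_normalizer_iff]
        intro y
        have h := mem_normalizer_iff.mp (hUn (hA ▸ mem_map_of_mem _ hx)) (MulAut.conj m y)
        simpa [mem_comap, map_mul, map_inv] using h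
      · intro h
        apply hUne
        rw [← map_comap_eq_self_of_surjective (f := (MulAut.conj m).toMonoidHom)
          (MulAut.conj m).surjective U, h, Subgroup.map_bot]
    rw [← hU', map_comap_eq_self_of_surjective (f := (MulAut.conj m).toMonoidHom)
      (MulAut.conj m).surjective U]

theorem card_sup_of_commute {A B : Subgroup G} (hc : A ≤ Subgroup.centralizer (B : Set G))
    (hd : A ⊓ B = ⊥) : Nat.card ↥(A ⊔ B) = Nat.card A * Nat.card B := by
  have hcomm : ∀ (a : ↥A) (b : ↥B), Commute (A.subtype a) (B.subtype b) := fun a b =>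
    ((mem_centralizer_iff.mp (hc a.2)) b b.2).symm
  have hinj : Function.Injective (A.subtype.noncommCoprod B.subtype hcomm) := by
    rw [injective_iff_map_eq_one]
    rintro ⟨a, b⟩ h
    have h' : (a : G) * b = 1 := by simpa using h
    have hmem : (a : G) ∈ A ⊓ B := mem_inf.mpr ⟨a.2, by
      rw [eq_inv_of_mul_eq_one_left h']; exact inv_mem b.2⟩
    rw [hd, mem_bot] at hmem
    rw [hmem, one_mul] at h'
    exact Prod.ext (Subtype.ext hmem) (Subtype.ext h')
  have h1 := Nat.card_congr (MonoidHom.ofInjective hinj).toEquiv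
  rw [Nat.card_prod, MonoidHom.noncommCoprod_range, range_subtype, range_subtype] at h1
  exact h1.symm

/-- Two commuting subgroups cannot both map onto the alternating group. -/
theorem not_alternating_both {n : ℕ} (h4 : 4 ≤ n) {H : Type*} [Group H]
    (f : H →* Equiv.Perm (Fin n)) {X Y : Subgroup H}
    (hc : ∀ x ∈ X, ∀ y ∈ Y, x * y = y * x)
    (hX : alternatingGroup (Fin n) ≤ X.map f) (hY : alternatingGroup (Fin n) ≤ Y.map f) : False := by
  haveI : Nontrivial ↥(alternatingGroup (Fin n)) :=
    alternatingGroup.nontrivial_of_three_le_card (by simp; omega)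
  obtain ⟨a, ha⟩ := exists_ne (1 : ↥(alternatingGroup (Fin n)))
  refine ha (Subtype.ext (eq_one_of_commute_alternating (by simpa using h4) fun b hb => ?_))
  obtain ⟨x, hx, hxb⟩ := hX hb
  obtain ⟨y, hy, hya⟩ := hY a.2
  rw [← hxb, ← hya, ← map_mul, hc x hx y hy, map_mul]

namespace AltAct

variable {P : MPair G} {d : ℕ}

theorem exists_res_swap (b : AltAct P.swap d) (h3 : 3 ≤ d) :
    ∃ r : ↥(P.M ⊓ P.N) →* Equiv.Perm (Fin (d - 1)),
      (∀ x, r x = 1 ↔ (x : G) ∈ P.swap.A1) ∧ alternatingGroup (Fin (d - 1)) ≤ r.range := by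
  obtain ⟨r, hr, hralt⟩ := b.exists_res h3
  let ι : ↥(P.M ⊓ P.N) →* ↥(P.swap.M ⊓ P.swap.N) := inclusion (le_of_eq (inf_comm P.M P.N))
  refine ⟨r.comp ι, fun x => hr (ι x), fun g hg => ?_⟩
  obtain ⟨⟨y, hy⟩, hye⟩ := hralt hg
  exact ⟨⟨y, (le_of_eq (inf_comm P.N P.M)) hy⟩, hye⟩

/-- The kernel facts: `B₁` is not inside `A₁` and conversely. -/
theorem not_le (a : AltAct P d) (b : AltAct P.swap d) (h6 : 6 ≤ d) (hne : P.A1 ≠ ⊥) :
    ¬ P.swap.A1 ≤ P.A1 ∧ ¬ P.A1 ≤ P.swap.A1 := by
  have key : ∀ (Q : MPair G) (a : AltAct Q d) (b : AltAct Q.swap d),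
      Q.swap.A1 ≤ Q.A1 → Q.A1 = Q.swap.A1 := by
    intro Q a b h
    refine le_antisymm ?_ h
    obtain ⟨r, hr, hralt⟩ := a.exists_res (by omega)
    obtain ⟨r2, hr2', hr2alt⟩ := b.exists_res_swap (by omega)
    have hA1D : Q.A1 ≤ Q.M ⊓ Q.N := le_inf Q.A1_le Q.A1_le'
    haveI : (Q.A1.subgroupOf (Q.M ⊓ Q.N)).Normal :=
      (normal_subgroupOf_iff_le_normalizer hA1D).mpr (inf_le_left.trans Q.M_le_normalizer_A1)
    haveI : Nontrivial (Fin (d - 1)) := Fin.nontrivial_iff_two_le.mpr (by omega)
    rcases map_dichotomy (by simpa using (by omega : 5 ≤ d - 1)) r2 hr2alt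
        (Q.A1.subgroupOf (Q.M ⊓ Q.N)) with h1 | h1
    · intro x hx
      exact (hr2' ⟨x, hA1D hx⟩).mp (h1 (show (⟨x, hA1D hx⟩ : ↥(Q.M ⊓ Q.N)) ∈
        Q.A1.subgroupOf (Q.M ⊓ Q.N) from hx))
    · exfalso
      have h2 := factorial_le_two_mul_card_of_alternating_le h1
      have h3 := factorial_le_two_mul_card_of_alternating_le hralt
      rw [← index_ker] at h3
      rw [Fintype.card_fin] at h2 h3
      have hker : r.ker = Q.A1.subgroupOf (Q.M ⊓ Q.N) := Subgroup.ext hr
      rw [hker] at h3
      set X := Q.A1.subgroupOf (Q.M ⊓ Q.N) with hX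
      have h4 : Nat.card (X.map r2) * r2.ker.relIndex ⊤ ≤ (d - 1).factorial * r2.ker.relIndex ⊤ := by
        refine Nat.mul_le_mul_right _ ?_
        refine (Nat.card_le_card_of_injective _ Subtype.val_injective).trans (le_of_eq ?_)
        rw [Nat.card_perm, Nat.card_fin]
      have h5 : Nat.card (X.map r2) * X.index = r2.ker.index := by
        have hle : r2.ker ≤ X := fun x hx => h ((hr2' x).mp hx)
        rw [← relIndex_mul_index hle, relIndex_ker]
      have h6' : r2.ker.index ≤ (d - 1).factorial := by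
        rw [index_ker]
        refine (Nat.card_le_card_of_injective _ Subtype.val_injective).trans (le_of_eq ?_)
        rw [Nat.card_perm, Nat.card_fin]
      have h7 : 120 ≤ (d - 1).factorial :=
        le_trans (by decide : 120 ≤ (5 : ℕ).factorial) (Nat.factorial_le (by omega))
      nlinarith
  have hcontra : P.A1 = P.swap.A1 → False := fun he => hne
    (P.eq_bot_of_normalized P.A1_le P.M_le_normalizer_A1 (he ▸ P.swap.M_le_normalizer_A1))
  exact ⟨fun h => hcontra (key P a b h), fun h => hcontra (key P.swap b a h).symm⟩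

/-- An element normalizing `A₁ ⊓ B₁` lies in `N`, when this is nontrivial and `A₂` is trivial. -/
theorem mem_N_of_normalizes (a : AltAct P d) (h6 : 6 ≤ d) (hA : P.A2 = ⊥)
    (hC : P.A1 ⊓ P.swap.A1 ≠ ⊥) {m : G} (hm : m ∈ P.M)
    (hmn : m ∈ Subgroup.normalizer ((P.A1 ⊓ P.swap.A1 : Subgroup G) : Set G)) : m ∈ P.N := by
  by_contra h
  have hle := a.le_of_inf_le (by omega) P.le_normalizer_inf_A1 hm hmn h
  refine hC (le_bot_iff.mp (hA ▸ ?_))
  intro x hx
  exact mem_coreIn.mpr ⟨P.A1_le (mem_inf.mp hx).1,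
    fun n hn => (mem_normalizer_iff.mp (hle hn) x).mp hx⟩

/-- The main lemma: `A₁ ⊓ B₁ = 1` if `A₂ = 1`. -/
theorem inf_A1_eq_bot (a : AltAct P d) (b : AltAct P.swap d) (h6 : 6 ≤ d) (hne : P.A1 ≠ ⊥)
    (hA : P.A2 = ⊥) : P.A1 ⊓ P.swap.A1 = ⊥ := by
  classical
  by_contra hC
  haveI : Nontrivial (Fin (d - 1)) := Fin.nontrivial_iff_two_le.mpr (by omega)
  set C := P.A1 ⊓ P.swap.A1 with hCdef
  have hA1D : P.A1 ≤ P.M ⊓ P.N := le_inf P.A1_le P.A1_le'
  have hB1D : P.swap.A1 ≤ P.M ⊓ P.N := le_inf P.swap.A1_le' P.swap.A1_le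
  have hCn : P.A1 ≤ Subgroup.normalizer (C : Set G) := hA1D.trans P.le_normalizer_inf_A1
  have h5 : 5 ≤ Fintype.card (Fin (d - 1)) := by rw [Fintype.card_fin]; omega
  -- the two restricted homomorphisms
  obtain ⟨r, hr, hralt⟩ := a.exists_res (by omega)
  obtain ⟨r', hr', hralt'⟩ := b.exists_res_swap (by omega)
  have hA1D' : P.A1 ≤ P.M ⊓ P.N := hA1D
  set e : ↥P.A1 →* Equiv.Perm (Fin (d - 1)) := r'.comp (inclusion hA1D') with he
  have hek : ∀ x, e x = 1 ↔ (x : G) ∈ C := fun x =>
    (hr' _).trans ⟨fun h => mem_inf.mpr ⟨x.2, h⟩, fun h => (mem_inf.mp h).2⟩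
  have healt : alternatingGroup (Fin (d - 1)) ≤ e.range := by
    have hn : (P.A1.subgroupOf (P.M ⊓ P.N)).Normal :=
      (normal_subgroupOf_iff_le_normalizer hA1D').mpr (inf_le_left.trans P.M_le_normalizer_A1)
    rcases map_dichotomy h5 r' hralt' (P.A1.subgroupOf (P.M ⊓ P.N)) with h | h
    · exact absurd (fun x hx => (hr' _).mp (h (show (⟨x, hA1D' hx⟩ : ↥(P.M ⊓ P.N)) ∈
        P.A1.subgroupOf (P.M ⊓ P.N) from hx))) (a.not_le b h6 hne).2
    · rw [he, MonoidHom.range_comp, inclusion_range]; exact h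
  have key : ∀ T, IsMinNormal P.A1 T → ¬ T ≤ C →
      alternatingGroup (Fin (d - 1)) ≤ (T.subgroupOf P.A1).map e ∧
      (∀ x ∈ P.A1, x ∈ Subgroup.centralizer (T : Set G) → x ∈ C) := by
    intro T hT hTC
    haveI := (normal_subgroupOf_iff_le_normalizer hT.le).mpr hT.norm
    have h1 : alternatingGroup (Fin (d - 1)) ≤ (T.subgroupOf P.A1).map e :=
      (map_dichotomy h5 e healt (T.subgroupOf P.A1)).resolve_left fun h => hTC fun x hx =>
        (hek ⟨x, hT.le hx⟩).mp (h (show (⟨x, hT.le hx⟩ : ↥P.A1) ∈ T.subgroupOf P.A1 from hx))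
    refine ⟨h1, fun x hx hxc => (hek ⟨x, hx⟩).mp
      (eq_one_of_commute_alternating (by rw [Fintype.card_fin]; omega) fun g hg => ?_)⟩
    obtain ⟨t, ht, rfl⟩ := h1 hg
    rw [← map_mul, ← map_mul]
    exact congrArg e (Subtype.ext (mem_centralizer_iff.mp hxc (t : G) ht))
  have uniq : ∀ T U, IsMinNormal P.A1 T → IsMinNormal P.A1 U → ¬ T ≤ C → ¬ U ≤ C → T = U := by
    intro T U hT hU hTC hUC
    by_contra hTU
    have hnle : ¬ T ≤ U := fun h => hTU (hU.min T h hT.norm hT.ne)
    refine not_alternating_both (by omega) e ?_ (key T hT hTC).1 (key U hU hUC).1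
    intro x hx y hy
    exact Subtype.ext ((mem_centralizer_iff.mp (hT.le_centralizer hU.le hU.norm hnle hy)) x hx)
  -- representatives and conjugates of `C`
  choose rep hrep using a.exists_phi_pt (by omega)
  set Cj : Fin d → Subgroup G := fun i => C.map (MulAut.conj (rep i : G)).toMonoidHom with hCj
  have hCjA : ∀ i, P.A1 ≤ Subgroup.normalizer (Cj i : Set G) :=
    fun i => P.le_normalizer_conj_inf (rep i).2
  have hCjle : ∀ i, Cj i ≤ P.A1 := by
    rintro i _ ⟨x, hx, rfl⟩
    exact (mem_normalizer_iff.mp (P.M_le_normalizer_A1 (rep i).2) x).mp (mem_inf.mp hx).1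
  have hCpt : Cj a.pt = C := Components.map_conj_eq_iff_mem_normalizer.mpr
    (P.le_normalizer_inf_A1 (mem_inf.mpr ⟨(rep a.pt).2, (a.stab _).mp (hrep a.pt)⟩))
  have hinf : P.A1 ⊓ Finset.univ.inf Cj = ⊥ := by
    rw [eq_bot_iff, ← hA]
    rintro x ⟨hx, hxi⟩
    refine mem_coreIn.mpr ⟨P.A1_le hx, fun n hn => ?_⟩
    set n' : ↥P.M := ⟨n, hn⟩
    set i := a.phi n'⁻¹ a.pt with hi
    have h1 : x ∈ Cj i := Finset.inf_le (f := Cj) (Finset.mem_univ i) hxi
    have h2 : ((rep i : G))⁻¹ * x * (rep i : G) ∈ C := mem_map_conj.mp h1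
    have hδ : n * (rep i : G) ∈ Subgroup.normalizer (C : Set G) :=
      P.le_normalizer_inf_A1 (mem_inf.mpr ⟨mul_mem hn (rep i).2, (a.stab (n' * rep i)).mp (by
        rw [map_mul, Equiv.Perm.mul_apply, hrep, hi, map_inv]
        simp)⟩)
    have h3 := (mem_normalizer_iff.mp hδ _).mp h2
    show n * x * n⁻¹ ∈ C
    simpa [mul_assoc] using h3
  have exists_notle : ∀ T, IsMinNormal P.A1 T → ∃ i, ¬ T ≤ Cj i := by
    intro T hT
    by_contra h
    push Not at h
    exact hT.ne (le_bot_iff.mp (hinf ▸ le_inf hT.le (Finset.le_inf fun i _ => h i)))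
  -- transport of the key property to every conjugate
  have back : ∀ T i, IsMinNormal P.A1 T → ¬ T ≤ Cj i →
      ¬ T.map (MulAut.conj (rep i : G)⁻¹).toMonoidHom ≤ C ∧
        (∀ x ∈ P.A1, x ∈ Subgroup.centralizer (T : Set G) → x ∈ Cj i) := by
    intro T i hT hTi
    set T' := T.map (MulAut.conj (rep i : G)⁻¹).toMonoidHom with hT'
    have h1 : ¬ T' ≤ C := fun h => hTi fun x hx => mem_map_conj.mpr
      (h (mem_map_conj.mpr (by simpa [mul_assoc] using hx)))
    refine ⟨h1, fun x hx hxc => mem_map_conj.mpr ?_⟩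
    refine (key T' (hT.map_conj (P.M_le_normalizer_A1 (inv_mem (rep i).2))) h1).2 _ ?_ ?_
    · simpa [mul_assoc] using
        (mem_normalizer_iff.mp (P.M_le_normalizer_A1 (inv_mem (rep i).2)) x).mp hx
    · rw [mem_centralizer_iff]
      intro t ht
      have h2 := mem_map_conj.mp ht
      have h3 := mem_centralizer_iff.mp hxc _ h2
      simp only [inv_inv, mul_assoc] at h3
      calc t * ((rep i : G)⁻¹ * x * rep i)
          = (rep i : G)⁻¹ * ((rep i : G) * (t * ((rep i : G)⁻¹ * x))) * rep i := by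
            simp [mul_assoc]
        _ = (rep i : G)⁻¹ * (x * ((rep i : G) * (t * (rep i : G)⁻¹))) * rep i := by rw [h3]
        _ = ((rep i : G)⁻¹ * x * rep i) * t := by simp [mul_assoc]
  have hinj : ∀ i j, Cj i = Cj j → i = j := by
    intro i j hij
    set m := (rep j)⁻¹ * rep i with hmdef
    have hmn : (m : G) ∈ Subgroup.normalizer (C : Set G) := by
      rw [← Components.map_conj_eq_iff_mem_normalizer]
      have h := congrArg (Subgroup.map (MulAut.conj (rep j : G)⁻¹).toMonoidHom) hij
      simp only [hCj, Subgroup.map_map] at h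
      convert h using 1
      · congr 1; ext x; simp [hmdef, mul_assoc]
      · symm
        convert Subgroup.map_id C using 2
        ext x; simp [mul_assoc]
    have hmpt := (a.stab m).mpr (a.mem_N_of_normalizes h6 hA hC m.2 hmn)
    rw [hmdef, map_mul, Equiv.Perm.mul_apply, hrep, map_inv] at hmpt
    have := congrArg (a.phi (rep j)) hmpt
    simpa [hrep] using this
  rcases eq_or_ne P.swap.A2 ⊥ with hB | hB
  · -- `B₁` normalizes the minimal normal subgroups of `A₁` inside `C`
    obtain ⟨T, hT, hTC⟩ := exists_isMinNormal inf_le_left hCn hC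
    have hB1T : P.swap.A1 ≤ Subgroup.normalizer (T : Set G) := by
      have hnot : ∃ m ∈ P.N, ¬ T.map (MulAut.conj m).toMonoidHom ≤ C := by
        by_contra h
        push Not at h
        refine hT.ne (le_bot_iff.mp (hB ▸ ?_))
        intro x hx
        exact mem_coreIn.mpr ⟨P.swap.A1_le (mem_inf.mp (hTC hx)).2, fun n hn => by
          have := mem_inf.mp (h n hn (mem_map_of_mem _ hx))
          exact mem_inf.mpr ⟨this.2, this.1⟩⟩
      obtain ⟨m, hmN, hm⟩ := hnot
      intro y hy
      by_contra hyT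
      have hyD := hB1D hy
      set U := T.map (MulAut.conj y).toMonoidHom with hUdef
      have hU : IsMinNormal P.A1 U := hT.map_conj (P.M_le_normalizer_A1 (mem_inf.mp hyD).1)
      have hne' : U ≠ T := fun h => hyT (Components.map_conj_eq_iff_mem_normalizer.mp h)
      have hnle : ¬ T ≤ U := fun h => hne' (hU.min T h hT.norm hT.ne).symm
      have hcomm := hT.le_centralizer hU.le hU.norm hnle
      -- images in `B₁ / C`
      have hB1D' : P.swap.A1 ≤ P.M ⊓ P.N := hB1D
      set e' : ↥P.swap.A1 →* Equiv.Perm (Fin (d - 1)) := r.comp (inclusion hB1D') with he'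
      have he'k : ∀ x, e' x = 1 ↔ (x : G) ∈ C := fun x =>
        (hr _).trans ⟨fun h => mem_inf.mpr ⟨h, x.2⟩, fun h => (mem_inf.mp h).1⟩
      have he'alt : alternatingGroup (Fin (d - 1)) ≤ e'.range := by
        have hn : (P.swap.A1.subgroupOf (P.M ⊓ P.N)).Normal :=
          (normal_subgroupOf_iff_le_normalizer hB1D).mpr
            (inf_le_right.trans P.swap.M_le_normalizer_A1)
        rcases map_dichotomy h5 r hralt (P.swap.A1.subgroupOf (P.M ⊓ P.N)) with h | h
        · exact absurd (fun x hx => (hr _).mp (h (show (⟨x, hB1D hx⟩ : ↥(P.M ⊓ P.N)) ∈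
            P.swap.A1.subgroupOf (P.M ⊓ P.N) from hx))) (a.not_le b h6 hne).1
        · rw [he', MonoidHom.range_comp, inclusion_range]; exact h
      have hCB : C ≤ P.swap.A1 := inf_le_right
      -- conjugation by `m` as an automorphism of `B₁`
      have himg : ∀ W : Subgroup G, W ≤ C → C ≤ Subgroup.normalizer (W : Set G) →
          ¬ W.map (MulAut.conj m).toMonoidHom ≤ C → alternatingGroup (Fin (d - 1)) ≤
            ((W.map (MulAut.conj m).toMonoidHom).subgroupOf P.swap.A1).map e' := by
        intro W hWC hWn hW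
        have hmB : P.swap.A1.map (MulAut.conj m).toMonoidHom = P.swap.A1 :=
          Components.map_conj_eq_iff_mem_normalizer.mpr (P.swap.M_le_normalizer_A1 hmN)
        set C' := C.map (MulAut.conj m).toMonoidHom with hC'
        set W' := W.map (MulAut.conj m).toMonoidHom with hW'
        have hC'B : C' ≤ P.swap.A1 := hmB ▸ Subgroup.map_mono hCB
        have hW'C : W' ≤ C' := Subgroup.map_mono hWC
        haveI : (C'.subgroupOf P.swap.A1).Normal :=
          (normal_subgroupOf_iff_le_normalizer hC'B).mpr (hmB.ge.trans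
            ((Subgroup.map_mono (hB1D.trans P.le_normalizer_inf_A1)).trans (le_normalizer_map _)))
        have hC'alt : alternatingGroup (Fin (d - 1)) ≤ (C'.subgroupOf P.swap.A1).map e' :=
          (map_dichotomy h5 e' he'alt _).resolve_left fun h => hW (hW'C.trans fun x hx =>
            (he'k ⟨x, hC'B hx⟩).mp (h (show (⟨x, hC'B hx⟩ : ↥P.swap.A1) ∈
              C'.subgroupOf P.swap.A1 from hx)))
        refine alternating_le_of_normalized h5 (hC'alt.trans ((Subgroup.map_mono ?_).trans
          (le_normalizer_map e'))) fun h => hW fun x hx => ?_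
        · intro c hc
          rw [mem_normalizer_iff]
          intro x
          exact mem_normalizer_iff.mp
            ((Subgroup.map_mono hWn).trans (le_normalizer_map _) hc) (x : G)
        · exact (he'k ⟨x, hC'B (hW'C hx)⟩).mp (mem_bot.mp (h ▸ mem_map_of_mem e'
            (show (⟨x, hC'B (hW'C hx)⟩ : ↥P.swap.A1) ∈ W'.subgroupOf P.swap.A1 from hx)))
      have hyC : y ∈ Subgroup.normalizer (C : Set G) := P.le_normalizer_inf_A1 hyD
      have hUC : U ≤ C := by
        rw [← Components.map_conj_eq_iff_mem_normalizer.mpr hyC]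
        exact Subgroup.map_mono hTC
      have hUm : ¬ U.map (MulAut.conj m).toMonoidHom ≤ C := by
        intro h
        refine hm fun x hx => ?_
        obtain ⟨t, ht, rfl⟩ := hx
        have hy' : m * y * m⁻¹ ∈ Subgroup.normalizer (C : Set G) := P.le_normalizer_inf_A1
          (hB1D ((mem_normalizer_iff.mp (P.swap.M_le_normalizer_A1 hmN) y).mp hy))
        refine (mem_normalizer_iff.mp hy' _).mpr (h ?_)
        refine ⟨MulAut.conj y t, mem_map_of_mem _ ht, ?_⟩
        simp [MulAut.conj_apply, mul_assoc]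
      refine not_alternating_both (by omega) e' ?_
        (himg T hTC (inf_le_left.trans hT.norm) hm) (himg U hUC (inf_le_left.trans hU.norm) hUm)
      rintro x ⟨t, ht, htx⟩ z ⟨u, hu, huz⟩
      apply Subtype.ext
      rw [Subgroup.coe_mul, Subgroup.coe_mul]
      have hxx : (x : G) = MulAut.conj m t := htx.symm
      have hzz : (z : G) = MulAut.conj m u := huz.symm
      rw [hxx, hzz, ← map_mul, ← map_mul, mem_centralizer_iff.mp (hcomm hu) t ht]
    obtain ⟨i, hi⟩ := exists_notle T hT
    have hCi : ∀ x, x ∈ Cj i ↔ x ∈ P.A1 ∧ x ∈ Subgroup.centralizer (T : Set G) := fun x =>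
      ⟨fun hx => ⟨hCjle i hx, hT.le_centralizer (hCjle i) (hCjA i) hi hx⟩,
        fun hx => (back T i hT hi).2 x hx.1 hx.2⟩
    have hipt : i = a.pt := by
      refine a.eq_pt_of_fixed (by omega) hB1D
        (inf_le_right.trans P.swap.M_le_normalizer_A1) (a.not_le b h6 hne).1 fun y hy => ?_
      have hyn : (y : G) ∈ Subgroup.normalizer (Cj i : Set G) := by
        rw [mem_normalizer_iff]
        intro x
        rw [hCi, hCi]
        refine and_congr (mem_normalizer_iff.mp (P.M_le_normalizer_A1 y.2) x) ?_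
        exact mem_normalizer_iff.mp (Coprime.le_normalizer_centralizer hB1T hy) x
      have hyn' : ((rep i)⁻¹ * y * rep i : ↥P.M).1 ∈ Subgroup.normalizer (C : Set G) := by
        rw [mem_normalizer_iff]
        intro x
        have h := mem_normalizer_iff.mp hyn ((rep i : G) * x * (rep i : G)⁻¹)
        simp only [hCj, mem_map_conj] at h
        simpa [mul_assoc] using h
      have h := (a.stab _).mpr (a.mem_N_of_normalizes h6 hA hC (SetLike.coe_mem _) hyn')
      rw [map_mul, map_mul, Equiv.Perm.mul_apply, Equiv.Perm.mul_apply, hrep, map_inv] at h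
      have h' := congrArg (a.phi (rep i)) h
      simpa [hrep] using h'
    exact hi (hipt ▸ hCpt.symm ▸ hTC)
  · -- transport `B₂` to a normal subgroup of `M`
    obtain ⟨ψ⟩ := P.equiv
    set W := P.swap.A2.subgroupOf P.N with hW
    haveI hWn : W.Normal := (normal_subgroupOf_iff_le_normalizer P.swap.A2_le).mpr
      P.swap.M_le_normalizer_A2
    set X := (W.map ψ.symm.toMonoidHom).map P.M.subtype with hX
    have hXM : X ≤ P.M := map_subtype_le _
    have hXn : P.M ≤ Subgroup.normalizer (X : Set G) := by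
      have h1 : (W.map ψ.symm.toMonoidHom).Normal := hWn.map _ ψ.symm.surjective
      refine le_trans (le_of_eq ?_) (le_normalizer_map P.M.subtype)
      rw [normalizer_eq_top_iff.mpr h1, ← MonoidHom.range_eq_map, range_subtype]
    have hXne : X ≠ ⊥ := by
      intro h
      rw [hX, map_eq_bot_iff_of_injective _ P.M.subtype_injective,
        map_eq_bot_iff_of_injective _ ψ.symm.injective, hW, subgroupOf_eq_bot,
        disjoint_of_le_iff_left_eq_bot (show P.swap.A2 ≤ P.N from P.swap.A2_le)] at h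
      exact hB h
    have hXcard : Nat.card X ≤ Nat.card C := by
      rw [hX, card_map_of_injective P.M.subtype_injective, card_map_of_injective ψ.symm.injective,
        hW, Nat.card_congr (subgroupOfEquivOfLe (show P.swap.A2 ≤ P.N from P.swap.A2_le)).toEquiv]
      exact Subgroup.card_le_of_le ((coreIn_le_right _ _).trans (le_of_eq (inf_comm _ _)))
    have hXA : X ⊓ P.A1 ≠ ⊥ := by
      intro h
      have hc : X ≤ Subgroup.centralizer (P.A1 : Set G) := by
        rw [← commutator_eq_bot_iff_le_centralizer, eq_bot_iff, ← h]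
        refine le_inf (Coprime.commutator_le_of_le_normalizer (A := P.A1) (P.A1_le.trans hXn)) ?_
        rw [commutator_comm]
        exact Coprime.commutator_le_of_le_normalizer (hXM.trans P.M_le_normalizer_A1)
      have hXN : X ≤ P.N := fun x hx => a.mem_N_of_normalizes h6 hA hC (hXM hx)
        ((centralizer_le_normalizer _) (centralizer_le inf_le_left (hc hx)))
      exact hXne (le_bot_iff.mp (h ▸ le_inf le_rfl (fun x hx => mem_coreIn.mpr ⟨hXM hx, fun n hn =>
        mem_inf.mpr ⟨mul_mem (mul_mem hn (hXM hx)) (inv_mem hn),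
          hXN ((mem_normalizer_iff.mp (hXn hn) x).mp hx)⟩⟩)))
    obtain ⟨T0, hT0, hT0X⟩ := exists_isMinNormal inf_le_right
      (Coprime.le_normalizer_inf (P.A1_le.trans hXn) le_normalizer) hXA
    obtain ⟨i0, hi0⟩ := exists_notle T0 hT0
    set S : Fin d → Subgroup G :=
      fun j => T0.map (MulAut.conj ((rep j : G) * (rep i0 : G)⁻¹)).toMonoidHom with hS
    have hmS : ∀ j, (rep j : G) * (rep i0 : G)⁻¹ ∈ P.M := fun j =>
      mul_mem (rep j).2 (inv_mem (rep i0).2)
    have hSmin : ∀ j, IsMinNormal P.A1 (S j) := fun j =>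
      hT0.map_conj (P.M_le_normalizer_A1 (hmS j))
    have hSX : ∀ j, S j ≤ X := fun j => by
      rintro _ ⟨t, ht, rfl⟩
      exact (mem_normalizer_iff.mp (hXn (hmS j)) t).mp (mem_inf.mp (hT0X ht)).1
    have hSj : ∀ j, ¬ S j ≤ Cj j := by
      intro j h
      refine hi0 fun x hx => mem_map_conj.mpr ?_
      have := mem_map_conj.mp (h (mem_map_of_mem _ hx))
      simpa [MulAut.conj_apply, mul_assoc] using this
    have hSk : ∀ j k, j ≠ k → S k ≤ Cj j := by
      intro j k hjk
      by_contra h
      apply hjk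
      apply hinj
      ext x
      constructor <;> intro hx
      · exact (back (S k) k (hSmin k) (hSj k)).2 x (hCjle j hx)
          ((hSmin k).le_centralizer (hCjle j) (hCjA j) h hx)
      · exact (back (S k) j (hSmin k) h).2 x (hCjle k hx)
          ((hSmin k).le_centralizer (hCjle k) (hCjA k) (hSj k) hx)
    have hScard : ∀ j, (d - 1).factorial ≤ 2 * Nat.card (S j) := by
      intro j
      obtain ⟨h1, -⟩ := back (S j) j (hSmin j) (hSj j)
      set T' := (S j).map (MulAut.conj (rep j : G)⁻¹).toMonoidHom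
      have hT' := (hSmin j).map_conj (P.M_le_normalizer_A1 (inv_mem (rep j).2))
      have h2 := factorial_le_two_mul_card_of_alternating_le (key T' hT' h1).1
      rw [Fintype.card_fin] at h2
      refine h2.trans (Nat.mul_le_mul_left 2 ?_)
      calc Nat.card ((T'.subgroupOf P.A1).map e) ≤ Nat.card (T'.subgroupOf P.A1) :=
            Nat.le_of_dvd Nat.card_pos (Subgroup.card_map_dvd _ e)
        _ = Nat.card T' := Nat.card_congr (subgroupOfEquivOfLe hT'.le).toEquiv
        _ = Nat.card (S j) := card_map_of_injective (MulAut.conj _).injective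
    have hsup : ∀ s : Finset (Fin d),
        (d - 1).factorial ^ s.card ≤ 2 ^ s.card * Nat.card ↥(s.sup S) := by
      intro s
      induction s using Finset.induction_on with
      | empty => simp
      | @insert j s hj ih =>
        have hle : s.sup S ≤ Cj j :=
          Finset.sup_le fun k hk => hSk j k fun h => hj (h ▸ hk)
        have hcm : S j ≤ Subgroup.centralizer ((s.sup S : Subgroup G) : Set G) :=
          Subgroup.le_centralizer_iff.mp
            (hle.trans ((hSmin j).le_centralizer (hCjle j) (hCjA j) (hSj j)))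
        have hdj : S j ⊓ s.sup S = ⊥ :=
          le_bot_iff.mp ((inf_le_inf_left _ hle).trans
            ((hSmin j).inf_eq_bot (hCjA j) (hSj j)).le)
        rw [Finset.sup_insert, card_sup_of_commute hcm hdj, Finset.card_insert_of_notMem hj,
          pow_succ', pow_succ']
        calc (d - 1).factorial * (d - 1).factorial ^ s.card
            ≤ (2 * Nat.card (S j)) * (2 ^ s.card * Nat.card ↥(s.sup S)) :=
              Nat.mul_le_mul (hScard j) ih
          _ = _ := by ring
    have h1 := (hsup Finset.univ).trans (Nat.mul_le_mul_left _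
      ((Subgroup.card_le_of_le (Finset.sup_le fun j _ => hSX j)).trans hXcard))
    rw [Finset.card_univ, Fintype.card_fin] at h1
    have h2 : Nat.card C ≤ (d - 1).factorial ^ (d - 1) := by
      have hbot : C ⊓ (Finset.univ.erase a.pt).inf Cj = ⊥ := by
        rw [eq_bot_iff, ← hinf]
        refine le_inf (inf_le_left.trans inf_le_left) (Finset.le_inf fun i _ => ?_)
        by_cases hi : i = a.pt
        · rw [hi, hCpt]; exact inf_le_left
        · exact inf_le_right.trans (Finset.inf_le (Finset.mem_erase.mpr ⟨hi, Finset.mem_univ _⟩))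
      have h := relIndex_inf_dvd (A := C) (Finset.univ.erase a.pt) Cj (d - 1).factorial
        (fun i => inf_le_left.trans (hCjA i))
        (fun i => (relIndex_dvd_of_normalized inf_le_left (hCjA i)).trans
          (P.relIndex_conj_inf_dvd a.idx (rep i).2))
      rw [hbot, relIndex_bot_left, Finset.card_erase_of_mem (Finset.mem_univ _), Finset.card_univ,
        Fintype.card_fin] at h
      exact Nat.le_of_dvd (pow_pos (Nat.factorial_pos _) _) h
    have h3 := h1.trans (Nat.mul_le_mul_left _ h2)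
    have h4 : (d - 1).factorial ^ d = (d - 1).factorial * (d - 1).factorial ^ (d - 1) := by
      rw [← pow_succ', Nat.sub_add_cancel (by omega)]
    rw [h4] at h3
    exact absurd (Nat.le_of_mul_le_mul_right h3 (pow_pos (Nat.factorial_pos _) _))
      (Nat.not_le.mpr (two_pow_lt_factorial_pred h6))

end AltAct

end Cfsg.Agent.LAE65.TW
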