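import Cfsg.Agent.Lib.Components.GenFitting
import Cfsg.Agent.Lib.Components.Balance
import Cfsg.Agent.Lib.Transfer.Residual
import Cfsg.Agent.Lib.Coprime.Action
import Cfsg.Prelude.Def_Amalgam
import Cfsg.Prelude.Def_BaumannBlocks

/-!
# Tools for the Thompson–Wielandt theorem: cores inside a subgroup, and subgroups of a subgroup
seen in the ambient group.
-/

set_option autoImplicit false

namespace Cfsg.Agent.LAE65.TW

open Subgroup
open scoped commutatorElement

variable {G : Type*} [Group G]

/-! ### The core of `Y` in `M` -/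

/-- The core of `Y ⊓ M` in `M`, as a subgroup of `G`. -/
def coreIn (M Y : Subgroup G) : Subgroup G :=
  ((Y.subgroupOf M).normalCore).map M.subtype

theorem mem_coreIn {M Y : Subgroup G} {x : G} :
    x ∈ coreIn M Y ↔ x ∈ M ∧ ∀ m ∈ M, m * x * m⁻¹ ∈ Y := by
  constructor
  · rintro ⟨y, hy, rfl⟩
    exact ⟨y.2, fun m hm => hy ⟨m, hm⟩⟩
  · rintro ⟨hxM, h⟩
    exact ⟨⟨x, hxM⟩, fun b => h b.1 b.2, rfl⟩

theorem coreIn_le (M Y : Subgroup G) : coreIn M Y ≤ M := map_subtype_le _

theorem coreIn_le_right (M Y : Subgroup G) : coreIn M Y ≤ Y := fun x hx => by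
  simpa using (mem_coreIn.mp hx).2 1 (one_mem M)

theorem conj_mem_coreIn {M Y : Subgroup G} {m x : G} (hm : m ∈ M) (hx : x ∈ coreIn M Y) :
    m * x * m⁻¹ ∈ coreIn M Y := by
  obtain ⟨hxM, h⟩ := mem_coreIn.mp hx
  refine mem_coreIn.mpr ⟨mul_mem (mul_mem hm hxM) (inv_mem hm), fun n hn => ?_⟩
  simpa [mul_assoc] using h (n * m) (mul_mem hn hm)

theorem le_normalizer_coreIn (M Y : Subgroup G) :
    M ≤ Subgroup.normalizer (coreIn M Y : Set G) :=
  Coprime.le_normalizer_of_conj_mem fun _ hm _ hx => conj_mem_coreIn hm hx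

/-! ### Subgroups of a subgroup seen in `G` -/

/-- The layer of the subgroup `H`, in the ambient group. -/
def layerOf (H : Subgroup G) : Subgroup G := (layer ↥H).map H.subtype

theorem layerOf_le (H : Subgroup G) : layerOf H ≤ H := map_subtype_le _

theorem pCoreOf_le (p : ℕ) (H : Subgroup G) : pCoreOf p H ≤ H := map_subtype_le _

theorem pResidualOf_le (p : ℕ) (H : Subgroup G) : pResidualOf p H ≤ H := map_subtype_le _

theorem isPGroup_pCoreOf (p : ℕ) (H : Subgroup G) : IsPGroup p ↥(pCoreOf p H) :=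
  (Fitting.pCore_isPGroup p).map _

theorem normalizer_le_normalizer_layerOf (H : Subgroup G) :
    Subgroup.normalizer (H : Set G) ≤ Subgroup.normalizer (layerOf H : Set G) :=
  Components.normalizer_le_normalizer_map_characteristic H (layer ↥H)

theorem pCore_char (p : ℕ) (K : Type*) [Group K] : (pCore p K).Characteristic :=
  characteristic_iff_map_eq.mpr fun φ => Thompson.map_pCore_equiv φ

theorem pResidual_char (p : ℕ) (K : Type*) [Group K] : (pResidual p K).Characteristic :=
  characteristic_iff_map_eq.mpr fun φ => Transfer.map_pResidual_equiv φ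

theorem normalizer_le_normalizer_pCoreOf (p : ℕ) (H : Subgroup G) :
    Subgroup.normalizer (H : Set G) ≤ Subgroup.normalizer (pCoreOf p H : Set G) :=
  @Components.normalizer_le_normalizer_map_characteristic _ _ H (pCore p ↥H) (pCore_char p ↥H)

theorem normalizer_le_normalizer_pResidualOf (p : ℕ) (H : Subgroup G) :
    Subgroup.normalizer (H : Set G) ≤ Subgroup.normalizer (pResidualOf p H : Set G) :=
  @Components.normalizer_le_normalizer_map_characteristic _ _ H (pResidual p ↥H)
    (pResidual_char p ↥H)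

theorem le_normalizer_layerOf (H : Subgroup G) :
    H ≤ Subgroup.normalizer (layerOf H : Set G) :=
  le_normalizer.trans (normalizer_le_normalizer_layerOf H)

theorem le_normalizer_pCoreOf (p : ℕ) (H : Subgroup G) :
    H ≤ Subgroup.normalizer (pCoreOf p H : Set G) :=
  le_normalizer.trans (normalizer_le_normalizer_pCoreOf p H)

theorem card_layerOf (H : Subgroup G) : Nat.card ↥(layerOf H) = Nat.card ↥(layer ↥H) :=
  card_map_of_injective H.subtype_injective

theorem card_pCoreOf (p : ℕ) (H : Subgroup G) :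
    Nat.card ↥(pCoreOf p H) = Nat.card ↥(pCore p ↥H) :=
  card_map_of_injective H.subtype_injective

theorem card_layerOf_congr {H K : Subgroup G} (e : H ≃* K) :
    Nat.card ↥(layerOf H) = Nat.card ↥(layerOf K) := by
  rw [card_layerOf, card_layerOf, ← Components.map_layer_equiv e]
  exact (card_map_of_injective e.injective).symm

theorem card_pCoreOf_congr (p : ℕ) {H K : Subgroup G} (e : H ≃* K) :
    Nat.card ↥(pCoreOf p H) = Nat.card ↥(pCoreOf p K) := by
  rw [card_pCoreOf, card_pCoreOf, ← Thompson.map_pCore_equiv e]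
  exact (card_map_of_injective e.injective).symm

theorem layerOf_eq_bot_iff (H : Subgroup G) : layerOf H = ⊥ ↔ layer ↥H = ⊥ :=
  map_eq_bot_iff_of_injective _ H.subtype_injective

theorem pCoreOf_eq_bot_iff (p : ℕ) (H : Subgroup G) : pCoreOf p H = ⊥ ↔ pCore p ↥H = ⊥ :=
  map_eq_bot_iff_of_injective _ H.subtype_injective

/-- `X` is subnormal in `M`. -/
def SubnormalIn (X M : Subgroup G) : Prop := X ≤ M ∧ (X.subgroupOf M).IsSubnormal

theorem SubnormalIn.of_le_normalizer {X M : Subgroup G} (h : X ≤ M)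
    (hn : M ≤ Subgroup.normalizer (X : Set G)) : SubnormalIn X M :=
  ⟨h, ((normal_subgroupOf_iff_le_normalizer h).mpr hn).isSubnormal⟩

theorem SubnormalIn.step {X Y M : Subgroup G} (h : X ≤ Y)
    (hn : Y ≤ Subgroup.normalizer (X : Set G)) (hY : SubnormalIn Y M) : SubnormalIn X M := by
  have hle : X.subgroupOf M ≤ Y.subgroupOf M := fun x hx => h hx
  refine ⟨h.trans hY.1, IsSubnormal.step _ _ hle hY.2 ?_⟩
  refine (normal_subgroupOf_iff_le_normalizer hle).mpr fun y hy => ?_
  rw [mem_normalizer_iff]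
  intro x
  exact mem_normalizer_iff.mp (hn hy) (x : G)

theorem SubnormalIn.map_le {X M : Subgroup G} (hX : SubnormalIn X M)
    (F : ∀ (K : Type _) [Group K], Subgroup K)
    (hequiv : ∀ {K K' : Type _} [Group K] [Group K'] (e : K ≃* K'),
      (F K).map e.toMonoidHom = F K')
    (hsub : ∀ {K : Type _} [Group K] (H : Subgroup K), H.IsSubnormal →
      (F ↥H).map H.subtype ≤ F K) :
    (F ↥X).map X.subtype ≤ (F ↥M).map M.subtype := by
  refine le_trans (le_of_eq ?_) (Subgroup.map_mono (f := M.subtype) (hsub _ hX.2))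
  rw [← hequiv (subgroupOfEquivOfLe hX.1), Subgroup.map_map, Subgroup.map_map]
  rfl

theorem SubnormalIn.layerOf_le {X M : Subgroup G} (hX : SubnormalIn X M) :
    layerOf X ≤ layerOf M :=
  hX.map_le (fun K _ => layer K) (fun e => Components.map_layer_equiv e)
    (fun _ h => Components.map_layer_isSubnormal_le h)

theorem SubnormalIn.pCoreOf_le (p : ℕ) {X M : Subgroup G} (hX : SubnormalIn X M) :
    pCoreOf p X ≤ pCoreOf p M :=
  hX.map_le (fun K _ => pCore p K) (fun e => Thompson.map_pCore_equiv e)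
    (fun _ h => Thompson.map_pCore_isSubnormal_le h)

theorem SubnormalIn.le_pCoreOf {p : ℕ} {X M : Subgroup G} (hX : SubnormalIn X M)
    (hp : IsPGroup p ↥X) : X ≤ pCoreOf p M := by
  refine le_trans (le_of_eq ?_) (hX.pCoreOf_le p)
  rw [pCoreOf, Thompson.pCore_eq_top_iff.mpr hp, ← MonoidHom.range_eq_map, range_subtype]

/-- The layer of `M` normalizes every subgroup subnormal in `M`. -/
theorem SubnormalIn.layerOf_le_normalizer [Finite G] {X M : Subgroup G} (hX : SubnormalIn X M) :
    layerOf M ≤ Subgroup.normalizer (X : Set G) := by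
  have h : layer ↥M ≤ Subgroup.normalizer (X.subgroupOf M : Set ↥M) :=
    Components.layer_le_iff.mpr fun L hL => by
      rcases Components.component_le_or_commutator_eq_bot hL hX.2 with h | h
      · exact h.trans le_normalizer
      · exact (commutator_eq_bot_iff_le_centralizer.mp h).trans
          (Subgroup.centralizer_le_normalizer _)
  refine Coprime.le_normalizer_of_conj_mem ?_
  rintro _ ⟨m, hm, rfl⟩ x hx
  exact (mem_normalizer_iff.mp (h hm) ⟨x, hX.1 hx⟩).mp hx

/-- Subgroups of coprime order normalizing each other commute elementwise. -/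
theorem le_centralizer_of_coprime [Finite G] {A B : Subgroup G}
    (hA : A ≤ Subgroup.normalizer (B : Set G)) (hB : B ≤ Subgroup.normalizer (A : Set G))
    (hcop : (Nat.card A).Coprime (Nat.card B)) : A ≤ Subgroup.centralizer (B : Set G) := by
  rw [← commutator_eq_bot_iff_le_centralizer, eq_bot_iff]
  have h : ⁅A, B⁆ ≤ A ⊓ B := le_inf (Coprime.commutator_le_of_le_normalizer hB)
    (by rw [commutator_comm]; exact Coprime.commutator_le_of_le_normalizer hA)
  rwa [inf_eq_bot_of_coprime hcop] at h

/-- Normalizers grow in the `p`-group `A ⊔ B`. -/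
theorem le_of_normalizer_inf_le [Finite G] {p : ℕ} [Fact p.Prime] {A B : Subgroup G}
    (hA : IsPGroup p ↥A) (hB : IsPGroup p ↥B) (hAB : A ≤ Subgroup.normalizer (B : Set G))
    (h : Subgroup.normalizer (A : Set G) ⊓ B ≤ A) : B ≤ A := by
  by_contra hBA
  have hX : IsPGroup p ↥(A ⊔ B) := hA.to_sup_of_normal_right' hB hAB
  haveI : Group.IsNilpotent ↥(A ⊔ B) := hX.isNilpotent
  have hlt : A.subgroupOf (A ⊔ B) < ⊤ := lt_top_iff_ne_top.mpr fun he =>
    hBA (le_sup_right.trans (subgroupOf_eq_top.mp he))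
  obtain ⟨x, hx, hxA⟩ := SetLike.exists_of_lt (Group.normalizerCondition_of_isNilpotent _ hlt)
  have hxn : (x : G) ∈ Subgroup.normalizer (A : Set G) := by
    rw [mem_normalizer_iff]
    intro y
    constructor <;> intro hy
    · exact (mem_normalizer_iff.mp hx ⟨y, le_sup_left (b := B) hy⟩).mp hy
    · have hyX : y ∈ A ⊔ B := by
        have := mul_mem (mul_mem (inv_mem x.2) (le_sup_left (b := B) hy)) x.2
        simpa [mul_assoc] using this
      exact (mem_normalizer_iff.mp hx ⟨y, hyX⟩).mpr hy
  have hx' : (x : G) ∈ ((A ⊔ B : Subgroup G) : Set G) := x.2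
  rw [coe_mul_of_left_le_normalizer_right A B hAB] at hx'
  obtain ⟨a, ha, b, hb, hab⟩ := hx'
  have hbn : b ∈ Subgroup.normalizer (A : Set G) := by
    have : b = a⁻¹ * (x : G) := by rw [← hab]; simp
    rw [this]
    exact mul_mem (inv_mem (le_normalizer ha)) hxn
  exact hxA (show (x : G) ∈ A from hab ▸ mul_mem ha (h ⟨hbn, hb⟩))

/-- A subgroup that is its own `O^p` lies in every subgroup holding its elements of order prime
to `p`. -/
theorem le_of_coprime_mem {p : ℕ} {X H : Subgroup G} (hX : pResidual p ↥X = ⊤)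
    (h : ∀ x ∈ X, (orderOf x).Coprime p → x ∈ H) : X ≤ H := by
  have : pResidual p ↥X ≤ H.subgroupOf X := by
    rw [pResidual, Subgroup.closure_le]
    intro x hx
    exact h x x.2 (by simpa [orderOf_coe] using hx)
  rw [hX] at this
  intro x hx
  exact this (mem_top (⟨x, hx⟩ : ↥X))

/-- Wielandt: `O_p(G)` normalizes a subnormal subgroup equal to its own `O^p`. -/
theorem pCore_le_normalizer_of_isSubnormal [Finite G] (p : ℕ) [hp : Fact p.Prime] {X : Subgroup G}
    (hX : X.IsSubnormal) (hgen : pResidual p ↥X = ⊤) :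
    pCore p G ≤ Subgroup.normalizer (X : Set G) := by
  haveI hQn : (pCore p G).Normal := Fitting.pCore_normal p
  set Y := pCore p G ⊔ X with hY
  have hXY : X ≤ Y := le_sup_right
  obtain ⟨n, hn⟩ : ∃ n, (X.subgroupOf Y).index = p ^ n := by
    have h1 : X.relIndex Y ∣ Nat.card ↥(pCore p G) := by
      have h := Thompson.card_sup_dvd_mul X (pCore p G)
      rw [sup_comm, ← hY, ← relIndex_bot_left Y, ← relIndex_mul_relIndex ⊥ X Y bot_le hXY,
        relIndex_bot_left] at h
      exact Nat.dvd_of_mul_dvd_mul_left Nat.card_pos h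
    obtain ⟨m, hm⟩ := IsPGroup.iff_card.mp (Fitting.pCore_isPGroup p (G := G))
    rw [hm] at h1
    obtain ⟨n, _, hn⟩ := (Nat.dvd_prime_pow hp.out).mp h1
    exact ⟨n, hn⟩
  have key : ∀ H : Subgroup ↥Y, H.IsSubnormal → ∀ k, H.index = p ^ k → pResidual p ↥Y ≤ H := by
    intro H hH
    induction hH with
    | top => exact fun _ _ => le_top
    | step H K h_le _ hN ih =>
      intro k hk
      haveI := hN
      obtain ⟨j, hj, hKi⟩ := (Nat.dvd_prime_pow hp.out).mp (hk ▸ index_dvd_of_le h_le)
      have hR := ih j hKi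
      obtain ⟨i, hi, hHK⟩ := (Nat.dvd_prime_pow hp.out).mp
        (hk ▸ relIndex_dvd_index_of_le h_le : H.relIndex K ∣ p ^ k)
      have hQ : IsPGroup p (↥K ⧸ H.subgroupOf K) :=
        IsPGroup.of_card (n := i) hHK
      intro r hr
      have := Transfer.eq_one_of_pResidual_eq_top (Transfer.pResidual_pResidual (p := p))
        ((QuotientGroup.mk' (H.subgroupOf K)).comp (inclusion hR)) hQ ⟨r, hr⟩
      exact (QuotientGroup.eq_one_iff (N := H.subgroupOf K) _).mp this
  have h2 : X.subgroupOf Y ≤ pResidual p ↥Y := by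
    refine le_trans (le_of_eq ?_) (Transfer.map_pResidual_le (inclusion hXY))
    rw [hgen, ← MonoidHom.range_eq_map, inclusion_range]
  have h3 : X.subgroupOf Y = pResidual p ↥Y := le_antisymm h2 (key _ hX.subgroupOf n hn)
  have h4 := Components.normalizer_le_normalizer_map_characteristic Y (pResidual p ↥Y)
    (hK := pResidual_char p ↥Y)
  rw [← h3, map_subgroupOf_eq_of_le hXY] at h4
  exact le_sup_left.trans (le_normalizer.trans h4)

theorem pResidual_pResidualOf (p : ℕ) [Fact p.Prime] [Finite G] (H : Subgroup G) :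
    pResidual p ↥(pResidualOf p H) = ⊤ := by
  have h := Transfer.map_pResidual_equiv (p := p)
    ((pResidual p ↥H).equivMapOfInjective H.subtype H.subtype_injective)
  rw [Transfer.pResidual_pResidual, ← MonoidHom.range_eq_map,
    MonoidHom.range_eq_top.mpr (MulEquiv.surjective _)] at h
  exact h.symm

/-- Wielandt's lemma inside a subgroup `M`. -/
theorem SubnormalIn.pCoreOf_le_normalizer [Finite G] (p : ℕ) [Fact p.Prime] {X M : Subgroup G}
    (hX : SubnormalIn X M) (hgen : pResidual p ↥X = ⊤) :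
    pCoreOf p M ≤ Subgroup.normalizer (X : Set G) := by
  have hgen' : pResidual p ↥(X.subgroupOf M) = ⊤ := by
    rw [← Transfer.map_pResidual_equiv (subgroupOfEquivOfLe hX.1).symm, hgen,
      ← MonoidHom.range_eq_map, MonoidHom.range_eq_top]
    exact MulEquiv.surjective _
  have h := pCore_le_normalizer_of_isSubnormal p hX.2 hgen'
  refine Coprime.le_normalizer_of_conj_mem ?_
  rintro _ ⟨m, hm, rfl⟩ x hx
  exact (mem_normalizer_iff.mp (h hm) ⟨x, hX.1 hx⟩).mp hx

end Cfsg.Agent.LAE65.TW
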