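import Cfsg.Agent.LAE65.TW.Main

/-!
# Index bounds for the second cores, and point stabilizers of primitive groups
-/

set_option autoImplicit false

namespace Cfsg.Agent.LAE65.TW

open Subgroup

variable {G : Type*} [Group G] [Finite G]

theorem relIndex_coreIn_dvd_factorial (M D : Subgroup G) :
    (coreIn M D).relIndex M ∣ (D.relIndex M).factorial := by
  have h : ((D.subgroupOf M).normalCore).index ∣ (D.relIndex M).factorial := by
    rw [normalCore_eq_ker, index_ker]
    refine (Subgroup.card_subgroup_dvd_card _).trans (dvd_of_eq ?_)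
    rw [Nat.card_perm]
    rfl
  refine (dvd_of_eq ?_).trans h
  rw [relIndex, coreIn, subgroupOf, comap_map_eq_self_of_injective M.subtype_injective]

theorem relIndex_inf_dvd {ι : Type*} {A : Subgroup G} (s : Finset ι) (f : ι → Subgroup G) (e : ℕ)
    (hn : ∀ i, A ≤ Subgroup.normalizer (f i : Set G)) (he : ∀ i, (f i).relIndex A ∣ e) :
    (A ⊓ s.inf f).relIndex A ∣ e ^ s.card := by
  classical
  induction s using Finset.induction_on with
  | empty => simp
  | @insert i s hi ih =>
    rw [Finset.inf_insert, Finset.card_insert_of_notMem hi, pow_succ']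
    have h1 : A ⊓ (f i ⊓ s.inf f) = f i ⊓ (A ⊓ s.inf f) := by ac_rfl
    have h2 : (f i ⊓ (A ⊓ s.inf f)).relIndex A
        = (f i).relIndex (A ⊓ s.inf f) * (A ⊓ s.inf f).relIndex A := by
      rw [← relIndex_mul_relIndex _ (A ⊓ s.inf f) A inf_le_right inf_le_left, inf_relIndex_right]
    rw [h1, h2]
    refine mul_dvd_mul ?_ ih
    refine Dvd.dvd.trans ?_ (he i)
    haveI : ((f i ⊓ A).subgroupOf A).Normal := (normal_subgroupOf_iff_le_normalizer inf_le_right).mpr
      (Coprime.le_normalizer_inf (hn i) le_normalizer)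
    have h3 := relIndex_dvd_index_of_normal ((f i ⊓ A).subgroupOf A) ((A ⊓ s.inf f).subgroupOf A)
    rw [relIndex_subgroupOf inf_le_left] at h3
    refine Dvd.dvd.trans (dvd_of_eq ?_) (h3.trans (dvd_of_eq ?_))
    · conv_lhs => rw [← inf_relIndex_right]
      conv_rhs => rw [← inf_relIndex_right]
      congr 1
      rw [inf_assoc, inf_eq_right.mpr (inf_le_left : A ⊓ s.inf f ≤ A)]
    · exact inf_relIndex_right (f i) A

theorem relIndex_coreIn_dvd_pow {M D A J : Subgroup G} (hDM : D ≤ M) (hAD : A ≤ D)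
    (hJA : J ≤ A) (hA : M ≤ Subgroup.normalizer (A : Set G))
    (hJ : D ≤ Subgroup.normalizer (J : Set G)) :
    (coreIn M J).relIndex A ∣ J.relIndex A ^ D.relIndex M := by
  classical
  haveI : Fintype (↥M ⧸ D.subgroupOf M) := Fintype.ofFinite _
  let f : ↥M ⧸ D.subgroupOf M → Subgroup G := fun q =>
    J.map (MulAut.conj ((q.out : ↥M) : G)).toMonoidHom
  have hAc : ∀ q : ↥M ⧸ D.subgroupOf M,
      A.map (MulAut.conj ((q.out : ↥M) : G)).toMonoidHom = A := fun q =>
    (Components.map_conj_eq_iff_mem_normalizer).mpr (hA (q.out).2)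
  have hn : ∀ q, A ≤ Subgroup.normalizer (f q : Set G) := fun q => by
    refine le_trans ?_ (le_normalizer_map _)
    exact (hAc q).ge.trans (Subgroup.map_mono (hAD.trans hJ))
  have he : ∀ q, (f q).relIndex A ∣ J.relIndex A := fun q => by
    conv_lhs => rw [← hAc q]
    rw [relIndex_map_map_of_injective _ _ (MulAut.conj ((q.out : ↥M) : G)).injective]
  have h := relIndex_inf_dvd Finset.univ f _ hn he
  have hc : (Finset.univ : Finset (↥M ⧸ D.subgroupOf M)).card = D.relIndex M := by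
    rw [Finset.card_univ, ← Nat.card_eq_fintype_card]
    rfl
  rw [hc] at h
  refine (dvd_of_eq ?_).trans h
  congr 1
  apply le_antisymm
  · refine le_inf ((coreIn_le_right _ _).trans hJA) (Finset.le_inf fun q _ x hx => ?_)
    refine ⟨((q.out : ↥M) : G)⁻¹ * x * ((q.out : ↥M) : G), ?_, by simp [mul_assoc]⟩
    simpa using (mem_coreIn.mp hx).2 _ (inv_mem (q.out).2)
  · intro x hx
    obtain ⟨hxA, hxf⟩ := mem_inf.mp hx
    refine mem_coreIn.mpr ⟨hDM (hAD hxA), fun m hm => ?_⟩
    set m' : ↥M := ⟨m⁻¹, inv_mem hm⟩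
    set q : ↥M ⧸ D.subgroupOf M := (m' : ↥M ⧸ D.subgroupOf M)
    obtain ⟨δ, hδ⟩ := QuotientGroup.mk_out_eq_mul (D.subgroupOf M) m'
    obtain ⟨j, hj, hje⟩ := Finset.inf_le (f := f) (Finset.mem_univ q) hxf
    have hout : ((q.out : ↥M) : G) = m⁻¹ * ((δ : ↥M) : G) := congrArg Subtype.val hδ
    have : m * x * m⁻¹ = ((δ : ↥M) : G) * j * ((δ : ↥M) : G)⁻¹ := by
      rw [← hje]
      show _ = _
      rw [MulEquiv.coe_toMonoidHom, MulAut.conj_apply, hout]
      simp [mul_assoc]
    rw [this]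
    exact (mem_normalizer_iff.mp (hJ δ.2) j).mp hj

namespace MPair

variable (P : MPair G)

theorem relIndex_swap : (P.N ⊓ P.M).relIndex P.N = (P.M ⊓ P.N).relIndex P.M := by
  rw [inf_comm]
  have h1 := relIndex_mul_relIndex ⊥ (P.M ⊓ P.N) P.M bot_le inf_le_left
  have h2 := relIndex_mul_relIndex ⊥ (P.M ⊓ P.N) P.N bot_le inf_le_right
  rw [relIndex_bot_left, relIndex_bot_left] at h1 h2
  rw [← Nat.card_congr P.equiv.some.toEquiv, ← h1] at h2
  exact Nat.eq_of_mul_eq_mul_left Nat.card_pos h2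

theorem relIndex_swap_A1_dvd {d : ℕ} (hd : (P.M ⊓ P.N).relIndex P.M = d) :
    P.swap.A1.relIndex (P.M ⊓ P.N) ∣ (d - 1).factorial := by
  have hd0 : 0 < d := hd ▸ (Nat.pos_of_ne_zero fun h => by
    have := relIndex_mul_relIndex ⊥ (P.M ⊓ P.N) P.M bot_le inf_le_left
    rw [h, mul_zero, relIndex_bot_left] at this
    exact Nat.card_pos.ne this)
  have hB1D : P.swap.A1 ≤ P.M ⊓ P.N := le_inf P.swap.A1_le' P.swap.A1_le
  have h : P.swap.A1.relIndex P.N ∣ d.factorial := by
    rw [← hd, ← P.relIndex_swap]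
    exact relIndex_coreIn_dvd_factorial P.N (P.N ⊓ P.M)
  rw [← relIndex_mul_relIndex _ (P.M ⊓ P.N) P.N hB1D inf_le_right, inf_comm P.M P.N,
    P.relIndex_swap, hd, inf_comm P.N P.M] at h
  rw [← Nat.mul_factorial_pred hd0.ne', mul_comm d] at h
  exact Nat.dvd_of_mul_dvd_mul_right hd0 h

theorem relIndex_inf_A1_dvd {d : ℕ} (hd : (P.M ⊓ P.N).relIndex P.M = d) :
    (P.A1 ⊓ P.swap.A1).relIndex P.A1 ∣ (d - 1).factorial := by
  refine Dvd.dvd.trans ?_ (P.relIndex_swap_A1_dvd hd)
  haveI : (P.swap.A1.subgroupOf (P.M ⊓ P.N)).Normal :=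
    (normal_subgroupOf_iff_le_normalizer (le_inf P.swap.A1_le' P.swap.A1_le)).mpr
      (inf_le_right.trans P.swap.M_le_normalizer_A1)
  rw [inf_relIndex_left]
  have h4 := relIndex_dvd_index_of_normal (P.swap.A1.subgroupOf (P.M ⊓ P.N))
    (P.A1.subgroupOf (P.M ⊓ P.N))
  rwa [relIndex_subgroupOf (le_inf P.A1_le P.A1_le')] at h4

theorem relIndex_A2_dvd {d : ℕ} (hd : (P.M ⊓ P.N).relIndex P.M = d) :
    P.A2.relIndex P.M ∣ d.factorial * (d - 1).factorial ^ d := by
  have hD : P.M ⊓ P.N ≤ P.M := inf_le_left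
  have h1 : P.A1.relIndex P.M ∣ d.factorial := hd ▸ relIndex_coreIn_dvd_factorial P.M (P.M ⊓ P.N)
  have hA1D : P.A1 ≤ P.M ⊓ P.N := le_inf P.A1_le P.A1_le'
  have h3 := P.relIndex_inf_A1_dvd hd
  have h4 : P.A2.relIndex P.A1 ∣ (d - 1).factorial ^ d := by
    refine Dvd.dvd.trans ?_ (pow_dvd_pow_of_dvd h3 d)
    rw [← hd]
    exact relIndex_coreIn_dvd_pow hD hA1D inf_le_left P.M_le_normalizer_A1
      (Coprime.le_normalizer_inf (inf_le_left.trans P.M_le_normalizer_A1)
        (inf_le_right.trans P.swap.M_le_normalizer_A1))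
  rw [← relIndex_mul_relIndex _ _ _ P.A2_le_A1 P.A1_le, mul_comm d.factorial]
  exact mul_dvd_mul h4 h1

/-- If one of the second cores is trivial, the order of `M` is bounded. -/
theorem card_dvd {d : ℕ} (hd : (P.M ⊓ P.N).relIndex P.M = d)
    (h : P.A2 = ⊥ ∨ P.swap.A2 = ⊥) :
    Nat.card ↥P.M ∣ d.factorial * (d - 1).factorial ^ d := by
  rcases h with h | h
  · have := P.relIndex_A2_dvd hd
    rwa [h, relIndex_bot_left] at this
  · have := P.swap.relIndex_A2_dvd (P.relIndex_swap.trans hd)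
    rw [h, relIndex_bot_left] at this
    rwa [Nat.card_congr P.equiv.some.toEquiv]

end MPair

section Action

variable {Ω : Type*} [MulAction G Ω] [FaithfulSMul G Ω]

omit [Finite G] in
theorem normalCore_stabilizer (hprim : MulAction.IsPreprimitive G Ω) (a : Ω) :
    (MulAction.stabilizer G a).normalCore = ⊥ := by
  rw [eq_bot_iff]
  intro x hx
  refine Subgroup.mem_bot.mpr (eq_of_smul_eq_smul (α := Ω) fun c => ?_)
  haveI := hprim.toIsPretransitive
  obtain ⟨g, rfl⟩ := MulAction.exists_smul_eq G a c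
  have h : (g⁻¹ * x * g) • a = a := by simpa using hx g⁻¹
  have h2 := congrArg (g • ·) h
  simpa [mul_smul, one_smul] using h2

/-- The stabilizers of two points of a faithful primitive action. -/
theorem exists_mPair (hprim : MulAction.IsPreprimitive G Ω) (a b : Ω) (d : ℕ)
    (hd : Nat.card (MulAction.orbit (MulAction.stabilizer G a) b) = d) (h2 : 2 ≤ d) :
    ∃ P : MPair G, P.M = MulAction.stabilizer G a ∧ P.N = MulAction.stabilizer G b ∧
      (P.M ⊓ P.N).relIndex P.M = d := by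
  haveI := hprim.toIsPretransitive
  have hidx : (MulAction.stabilizer G a ⊓ MulAction.stabilizer G b).relIndex
      (MulAction.stabilizer G a) = d := by
    rw [inf_relIndex_left, relIndex, ← hd, Nat.card_coe_set_eq,
      ← MulAction.index_stabilizer]
    congr 1
  have hne : MulAction.stabilizer G a ≠ MulAction.stabilizer G b := by
    intro he
    rw [← he, inf_idem, relIndex_self] at hidx
    omega
  haveI : Nontrivial Ω := ⟨a, b, fun he => hne (by rw [he])⟩
  obtain ⟨g, hg⟩ := MulAction.exists_smul_eq G a b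
  refine ⟨⟨MulAction.stabilizer G a, MulAction.stabilizer G b,
    (MulAction.isCoatom_stabilizer_iff_preprimitive G a).mpr hprim,
    (MulAction.isCoatom_stabilizer_iff_preprimitive G b).mpr hprim,
    normalCore_stabilizer hprim a, normalCore_stabilizer hprim b, hne,
    ⟨MulAction.stabilizerEquivStabilizer hg.symm⟩⟩, rfl, rfl, hidx⟩

end Action

end Cfsg.Agent.LAE65.TW
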