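import Cfsg.Agent.LAE65.TW.Basic

/-!
# The Thompson–Wielandt theorem for two conjugate maximal subgroups
-/

set_option autoImplicit false

namespace Cfsg.Agent.LAE65.TW

open Subgroup
open scoped commutatorElement

variable {G : Type*} [Group G]

/-- Two distinct conjugate core-free maximal subgroups. -/
structure MPair (G : Type*) [Group G] where
  /-- The first subgroup. -/
  M : Subgroup G
  /-- The second subgroup. -/
  N : Subgroup G
  maxM : IsCoatom M
  maxN : IsCoatom N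
  coreM : M.normalCore = ⊥
  coreN : N.normalCore = ⊥
  ne : M ≠ N
  equiv : Nonempty (↥M ≃* ↥N)

namespace MPair

variable (P : MPair G)

/-- The pair in the other order. -/
def swap : MPair G where
  M := P.N
  N := P.M
  maxM := P.maxN
  maxN := P.maxM
  coreM := P.coreN
  coreN := P.coreM
  ne := P.ne.symm
  equiv := P.equiv.map MulEquiv.symm

/-- The first core of `M`. -/
def A1 : Subgroup G := coreIn P.M (P.M ⊓ P.N)

/-- The second core of `M`. -/
def A2 : Subgroup G := coreIn P.M (P.A1 ⊓ P.swap.A1)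

theorem normalizer_eq {X : Subgroup G} (hX : X ≠ ⊥) (hle : X ≤ P.M)
    (hn : P.M ≤ Subgroup.normalizer (X : Set G)) : Subgroup.normalizer (X : Set G) = P.M := by
  rcases eq_or_ne (Subgroup.normalizer (X : Set G)) ⊤ with h | h
  · exfalso
    haveI := normalizer_eq_top_iff.mp h
    exact hX (le_bot_iff.mp (P.coreM ▸ normal_le_normalCore.mpr hle))
  · by_contra hne
    exact h (P.maxM.2 _ (lt_of_le_of_ne hn (Ne.symm hne)))

theorem eq_bot_of_normalized {X : Subgroup G} (hle : X ≤ P.M)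
    (h1 : P.M ≤ Subgroup.normalizer (X : Set G)) (h2 : P.N ≤ Subgroup.normalizer (X : Set G)) :
    X = ⊥ := by
  by_contra hX
  have h := P.normalizer_eq hX hle h1
  rw [h] at h2
  rcases eq_or_lt_of_le h2 with h3 | h3
  · exact P.ne h3.symm
  · exact P.maxM.1 (P.maxN.2 _ h3)

theorem A1_le : P.A1 ≤ P.M := coreIn_le _ _
theorem A1_le' : P.A1 ≤ P.N := (coreIn_le_right _ _).trans inf_le_right
theorem A2_le_A1 : P.A2 ≤ P.A1 := (coreIn_le_right _ _).trans inf_le_left
theorem A2_le_B1 : P.A2 ≤ P.swap.A1 := (coreIn_le_right _ _).trans inf_le_right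
theorem A2_le : P.A2 ≤ P.M := coreIn_le _ _
theorem A2_le' : P.A2 ≤ P.N := P.A2_le_A1.trans P.A1_le'
theorem M_le_normalizer_A1 : P.M ≤ Subgroup.normalizer (P.A1 : Set G) := le_normalizer_coreIn _ _
theorem M_le_normalizer_A2 : P.M ≤ Subgroup.normalizer (P.A2 : Set G) := le_normalizer_coreIn _ _

theorem subnormal_A1 : SubnormalIn P.A1 P.M :=
  SubnormalIn.of_le_normalizer P.A1_le P.M_le_normalizer_A1

theorem subnormal_A2 : SubnormalIn P.A2 P.M :=
  SubnormalIn.of_le_normalizer P.A2_le P.M_le_normalizer_A2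

theorem subnormal_A2' : SubnormalIn P.A2 P.N :=
  SubnormalIn.step P.A2_le_B1 (P.swap.A1_le'.trans P.M_le_normalizer_A2) P.swap.subnormal_A1

theorem pCoreOf_A2_le (p : ℕ) : pCoreOf p P.A2 ≤ pCoreOf p P.N := P.subnormal_A2'.pCoreOf_le p

theorem M_le_normalizer_pCoreOf_A2 (p : ℕ) :
    P.M ≤ Subgroup.normalizer (pCoreOf p P.A2 : Set G) :=
  P.M_le_normalizer_A2.trans (normalizer_le_normalizer_pCoreOf p _)

variable [Finite G]

theorem layerOf_N_le (hA : P.A2 ≠ ⊥) : layerOf P.N ≤ P.M :=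
  P.subnormal_A2'.layerOf_le_normalizer.trans_eq
    (P.normalizer_eq hA P.A2_le P.M_le_normalizer_A2)

theorem eq_of_layerOf_le (h : layerOf P.M ≤ layerOf P.N) : layerOf P.M = ⊥ := by
  have he : layerOf P.M = layerOf P.N :=
    eq_of_le_of_card_ge h (card_layerOf_congr P.equiv.some).ge
  exact P.eq_bot_of_normalized (layerOf_le _) (le_normalizer_layerOf _)
    (he.symm ▸ le_normalizer_layerOf _)

theorem eq_of_pCoreOf_le (p : ℕ) (h : pCoreOf p P.M ≤ pCoreOf p P.N) : pCoreOf p P.M = ⊥ := by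
  have he : pCoreOf p P.M = pCoreOf p P.N :=
    eq_of_le_of_card_ge h (card_pCoreOf_congr p P.equiv.some).ge
  exact P.eq_bot_of_normalized (pCoreOf_le _ _) (le_normalizer_pCoreOf _ _)
    (he.symm ▸ le_normalizer_pCoreOf _ _)

/-- A component of `↥M` seen in `G`. -/
theorem mem_layerOf {M : Subgroup G} {K : Subgroup ↥M} (hK : IsComponent K) :
    K.map M.subtype ≤ layerOf M :=
  Subgroup.map_mono (Components.component_le_layer hK)

/-- No component of `M` that lies in a subgroup `W ≤ M` normalized by `N` avoids `N`'s layer. -/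
theorem component_le_layerOf {M N W : Subgroup G} {K : Subgroup ↥M} (hK : IsComponent K)
    (hKW : K.map M.subtype ≤ W) (hWM : W ≤ M) (hWN : W ≤ N)
    (hn : N ≤ Subgroup.normalizer (W : Set G)) : K.map M.subtype ≤ layerOf N := by
  have hKW' : K ≤ W.subgroupOf M := fun k hk => hKW ⟨k, hk, rfl⟩
  have h1 : IsComponent (K.subgroupOf (W.subgroupOf M)) :=
    Components.component_subgroupOf hK hKW'
  have h2 := Components.component_map_equiv (subgroupOfEquivOfLe hWM) h1
  have h3 : K.map M.subtype ≤ layerOf W := by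
    refine le_trans ?_ (mem_layerOf h2)
    rintro _ ⟨k, hk, rfl⟩
    exact ⟨_, ⟨⟨k, hKW' hk⟩, hk, rfl⟩, rfl⟩
  exact h3.trans (SubnormalIn.of_le_normalizer hWN hn).layerOf_le

/-- The layer of `A₂` is trivial. -/
theorem layerOf_A2_eq_bot (hA : P.A2 ≠ ⊥) (hB : P.swap.A2 ≠ ⊥) : layerOf P.A2 = ⊥ := by
  by_contra hE
  have hN : Subgroup.normalizer (layerOf P.A2 : Set G) = P.M :=
    P.normalizer_eq hE ((layerOf_le _).trans P.A2_le)
      (P.M_le_normalizer_A2.trans (normalizer_le_normalizer_layerOf _))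
  have hL1 : layerOf P.M ≤ P.N := P.swap.layerOf_N_le hB
  have hL2 : layerOf P.N ≤ P.M := P.layerOf_N_le hA
  have hL : layerOf P.M ≤ layerOf P.N := by
    rw [layerOf, map_le_iff_le_comap, Components.layer_le_iff]
    intro K hK
    rw [← map_le_iff_le_comap]
    have hKN : K.map P.M.subtype ≤ Subgroup.normalizer (layerOf P.N : Set G) :=
      ((mem_layerOf hK).trans hL1).trans (le_normalizer_layerOf _)
    have hKN' : K ≤ Subgroup.normalizer ((layerOf P.N).subgroupOf P.M : Set ↥P.M) := by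
      intro k hk
      rw [mem_normalizer_iff]
      intro x
      exact mem_normalizer_iff.mp (hKN ⟨k, hk, rfl⟩) (x : G)
    rcases Components.component_le_or_commutator_eq_bot_of_le_normalizer hK hKN' with h | h
    · exact (Subgroup.map_mono h).trans_eq (map_subgroupOf_eq_of_le hL2)
    · exfalso
      have hC : K.map P.M.subtype ≤ Subgroup.centralizer (layerOf P.N : Set G) := by
        rw [← commutator_eq_bot_iff_le_centralizer]
        rw [← map_subgroupOf_eq_of_le hL2, ← map_commutator, h, Subgroup.map_bot]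
      have hne : layerOf P.N ≠ ⊥ := fun he => hE (le_bot_iff.mp (he ▸ P.subnormal_A2'.layerOf_le))
      have hW1 : Subgroup.centralizer (layerOf P.N : Set G) ≤ P.M :=
        (centralizer_le P.subnormal_A2'.layerOf_le).trans
          ((centralizer_le_normalizer _).trans_eq hN)
      have hW2 : Subgroup.centralizer (layerOf P.N : Set G) ≤ P.N :=
        (centralizer_le_normalizer _).trans_eq
          (P.swap.normalizer_eq hne (layerOf_le _) (le_normalizer_layerOf _))
      have hK2 := component_le_layerOf hK hC hW1 hW2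
        (Coprime.le_normalizer_centralizer (le_normalizer_layerOf _))
      have h5 : ⁅K.map P.M.subtype, K.map P.M.subtype⁆ = ⊥ :=
        le_bot_iff.mp ((commutator_mono hC hK2).trans_eq
          (commutator_eq_bot_iff_le_centralizer.mpr le_rfl))
      rw [← map_commutator, Components.component_commutator_eq_self hK,
        map_eq_bot_iff_of_injective _ P.M.subtype_injective] at h5
      exact Components.component_ne_bot hK h5
  exact hE (le_bot_iff.mp (P.eq_of_layerOf_le hL ▸ P.subnormal_A2.layerOf_le))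

theorem exists_pCoreOf_A2_ne_bot (hA : P.A2 ≠ ⊥) (hB : P.swap.A2 ≠ ⊥) :
    ∃ q, q.Prime ∧ pCoreOf q P.A2 ≠ ⊥ := by
  by_contra h
  push Not at h
  have h1 : layer ↥P.A2 = ⊥ := (layerOf_eq_bot_iff _).mp (P.layerOf_A2_eq_bot hA hB)
  have h2 : generalizedFittingSubgroup ↥P.A2 = ⊥ := by
    rw [generalizedFittingSubgroup, h1, bot_sup_eq, Fitting.fitting_eq_iSup_pCore, iSup_eq_bot]
    exact fun q => (pCoreOf_eq_bot_iff _ _).mp (h q q.2)
  haveI := Components.generalizedFitting_eq_bot_iff.mp h2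
  exact hA (eq_bot_of_subsingleton _)

/-- If `S ≤ M ∩ N` has order prime to `t` and centralizes `O_t(M) ∩ N`, it centralizes `O_t(M)`. -/
theorem le_centralizer_pCoreOf {t : ℕ} [Fact t.Prime] (hB : pCoreOf t P.swap.A2 ≠ ⊥)
    {S : Subgroup G} (hSM : S ≤ P.M) (hcop : (Nat.card S).Coprime t)
    (hS : S ≤ Subgroup.centralizer ((pCoreOf t P.M ⊓ P.N : Subgroup G) : Set G)) :
    S ≤ Subgroup.centralizer (pCoreOf t P.M : Set G) := by
  refine Coprime.thompson_pxq t (pCoreOf t P.M ⊓ P.N) S (pCoreOf t P.M)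
    ((isPGroup_pCoreOf t _).to_le inf_le_left) hcop (isPGroup_pCoreOf t _)
    (Subgroup.le_centralizer_iff.mp hS)
    ((inf_le_left.trans (pCoreOf_le _ _)).trans (le_normalizer_pCoreOf _ _))
    (hSM.trans (le_normalizer_pCoreOf _ _)) ?_
  rintro x ⟨hx1, hx2⟩
  have hPt : pCoreOf t P.swap.A2 ≤ pCoreOf t P.M ⊓ P.N :=
    le_inf (P.swap.pCoreOf_A2_le t) ((pCoreOf_le _ _).trans P.swap.A2_le)
  have hxN : x ∈ P.N :=
    (P.swap.normalizer_eq hB ((pCoreOf_le _ _).trans P.swap.A2_le)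
      (P.swap.M_le_normalizer_pCoreOf_A2 t)).le
      (centralizer_le_normalizer _ (centralizer_le hPt hx2))
  exact Subgroup.le_centralizer_iff.mp hS ⟨hx1, hxN⟩

theorem pCoreOf_M_ne_bot {t : ℕ} (hB : pCoreOf t P.swap.A2 ≠ ⊥) : pCoreOf t P.M ≠ ⊥ :=
  fun h => hB (le_bot_iff.mp (h ▸ P.swap.pCoreOf_A2_le t))

theorem centralizer_pCoreOf_le {t : ℕ} (hB : pCoreOf t P.swap.A2 ≠ ⊥) :
    Subgroup.centralizer (pCoreOf t P.M : Set G) ≤ P.M ⊓ P.N := by
  refine le_inf ((centralizer_le_normalizer _).trans_eq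
    (P.normalizer_eq (P.pCoreOf_M_ne_bot hB) (pCoreOf_le _ _) (le_normalizer_pCoreOf _ _))) ?_
  exact (centralizer_le (P.swap.pCoreOf_A2_le t)).trans ((centralizer_le_normalizer _).trans_eq
    (P.swap.normalizer_eq hB ((pCoreOf_le _ _).trans P.swap.A2_le)
      (P.swap.M_le_normalizer_pCoreOf_A2 t)))

theorem coprime_card {t r : ℕ} [Fact t.Prime] [Fact r.Prime] (hrt : r ≠ t) {A B : Subgroup G}
    (hA : IsPGroup r ↥A) (hB : IsPGroup t ↥B) : (Nat.card A).Coprime (Nat.card B) :=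
  IsPGroup.coprime_card_of_ne r t hrt A B hA hB

/-- Only the prime `t` contributes a core to `M`. -/
theorem pCoreOf_eq_bot_of_ne {t : ℕ} [Fact t.Prime] (hB : pCoreOf t P.swap.A2 ≠ ⊥) {r : ℕ}
    [hr : Fact r.Prime] (hrt : r ≠ t) : pCoreOf r P.M = ⊥ := by
  set S := pCoreOf r P.N ⊓ P.M with hS
  have hSN : S ≤ P.N := inf_le_left.trans (pCoreOf_le _ _)
  have hSn : P.M ⊓ P.N ≤ Subgroup.normalizer (S : Set G) :=
    Coprime.le_normalizer_inf (inf_le_right.trans (le_normalizer_pCoreOf _ _))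
      (inf_le_left.trans le_normalizer)
  have hPn : P.M ⊓ P.N ≤ Subgroup.normalizer ((pCoreOf t P.M ⊓ P.N : Subgroup G) : Set G) :=
    Coprime.le_normalizer_inf (inf_le_left.trans (le_normalizer_pCoreOf _ _))
      (inf_le_right.trans le_normalizer)
  have hSr : IsPGroup r ↥S := (isPGroup_pCoreOf r _).to_le inf_le_left
  have hPt : IsPGroup t ↥(pCoreOf t P.M ⊓ P.N) := (isPGroup_pCoreOf t _).to_le inf_le_left
  have hSC := le_centralizer_of_coprime (le_trans (le_inf inf_le_right hSN) hPn)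
    (le_trans (le_inf (inf_le_left.trans (pCoreOf_le _ _)) inf_le_right) hSn)
    (coprime_card hrt hSr hPt)
  have hSW := P.le_centralizer_pCoreOf hB inf_le_right (by
    obtain ⟨n, hn⟩ := IsPGroup.iff_card.mp hSr
    rw [hn]
    exact ((Nat.coprime_primes hr.out Fact.out).mpr hrt).pow_left n) hSC
  have hS1 : S ≤ pCoreOf r P.M :=
    ((SubnormalIn.of_le_normalizer ((P.centralizer_pCoreOf_le hB).trans inf_le_left)
      (Coprime.le_normalizer_centralizer (le_normalizer_pCoreOf t P.M))).step hSW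
      ((P.centralizer_pCoreOf_le hB).trans hSn)).le_pCoreOf hSr
  by_contra hne
  have hR1 : pCoreOf r P.M ≤ P.N := by
    have h1 : pCoreOf r P.M ≤ Subgroup.centralizer (pCoreOf t P.M : Set G) :=
      le_centralizer_of_coprime ((pCoreOf_le _ _).trans (le_normalizer_pCoreOf _ _))
        ((pCoreOf_le _ _).trans (le_normalizer_pCoreOf _ _))
        (coprime_card hrt (isPGroup_pCoreOf r _) (isPGroup_pCoreOf t _))
    exact h1.trans ((P.centralizer_pCoreOf_le hB).trans inf_le_right)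
  have h := le_of_normalizer_inf_le (isPGroup_pCoreOf r P.M) (isPGroup_pCoreOf r P.N)
    (hR1.trans (le_normalizer_pCoreOf _ _)) (by
      rw [P.normalizer_eq hne (pCoreOf_le _ _) (le_normalizer_pCoreOf _ _), inf_comm]
      exact hS1)
  exact hne (P.eq_of_pCoreOf_le r
    (eq_of_le_of_card_ge h (card_pCoreOf_congr r P.equiv.some).le).ge)

theorem pCoreOf_N_eq_bot_of_ne {t : ℕ} [Fact t.Prime] (hB : pCoreOf t P.swap.A2 ≠ ⊥) {r : ℕ}
    [Fact r.Prime] (hrt : r ≠ t) : pCoreOf r P.N = ⊥ := by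
  rw [← card_eq_one, ← card_pCoreOf_congr r P.equiv.some, P.pCoreOf_eq_bot_of_ne hB hrt,
    card_bot]

/-- The layers of `M` and `N` are trivial. -/
theorem layerOf_N_eq_bot {t : ℕ} [ht : Fact t.Prime] (hA : P.A2 ≠ ⊥)
    (hB : pCoreOf t P.swap.A2 ≠ ⊥) : layerOf P.N = ⊥ := by
  have hL2 : layerOf P.N ≤ P.M := P.layerOf_N_le hA
  have hW := P.centralizer_pCoreOf_le hB
  refine P.swap.eq_of_layerOf_le ?_
  show layerOf P.N ≤ layerOf P.M
  rw [layerOf, map_le_iff_le_comap, Components.layer_le_iff]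
  intro K hK
  rw [← map_le_iff_le_comap]
  have hKM : K.map P.N.subtype ≤ P.M := (mem_layerOf hK).trans hL2
  set Q := pCoreOf t P.M ⊓ P.N with hQ
  have hKQ : K ≤ Subgroup.normalizer (Q.subgroupOf P.N : Set ↥P.N) := by
    intro k hk
    rw [mem_normalizer_iff]
    intro x
    have hk' : (k : G) ∈ Subgroup.normalizer (Q : Set G) :=
      Coprime.le_normalizer_inf (inf_le_left.trans (le_normalizer_pCoreOf t P.M))
        (inf_le_right.trans le_normalizer) ⟨hKM ⟨k, hk, rfl⟩, k.2⟩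
    exact mem_normalizer_iff.mp hk' (x : G)
  have hQp : IsPGroup t ↥(Q.subgroupOf P.N) :=
    ((isPGroup_pCoreOf t P.M).to_le inf_le_left).of_equiv
      (subgroupOfEquivOfLe inf_le_right).symm
  have hKC : K.map P.N.subtype ≤ Subgroup.centralizer (Q : Set G) := by
    have h := Components.component_commutator_solvable hK
      (Coprime.isSolvable_of_isNilpotent' hQp.isNilpotent) hKQ
    rw [← commutator_eq_bot_iff_le_centralizer, ← map_subgroupOf_eq_of_le (show Q ≤ P.N from
      inf_le_right), ← map_commutator, h, Subgroup.map_bot]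
  refine component_le_layerOf hK ?_ (hW.trans inf_le_right) (hW.trans inf_le_left)
    (Coprime.le_normalizer_centralizer (le_normalizer_pCoreOf t P.M))
  set W := Subgroup.centralizer (pCoreOf t P.M : Set G) with hWdef
  intro y hy
  obtain ⟨k, hk, rfl⟩ := hy
  have hpW : ∀ x ∈ K, (orderOf x).Coprime t → (x : G) ∈ W := fun x hx hcop =>
    P.le_centralizer_pCoreOf hB (zpowers_le.mpr (hKM ⟨x, hx, rfl⟩))
      (by rw [Nat.card_zpowers]; exact (orderOf_coe x).symm ▸ hcop)
      (zpowers_le.mpr (hKC ⟨x, hx, rfl⟩)) (mem_zpowers _)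
  have hn : ((W.subgroupOf P.N).subgroupOf K).Normal := by
    refine ⟨fun x hx c => ?_⟩
    exact (mem_normalizer_iff.mp (Coprime.le_normalizer_centralizer (le_normalizer_pCoreOf t P.M)
      (hKM ⟨(c : ↥P.N), c.2, rfl⟩)) _).mp hx
  rcases Components.normal_eq_top_or_le_center hK.2 ((W.subgroupOf P.N).subgroupOf K) with h | h
  · exact (show (⟨k, hk⟩ : K) ∈ (W.subgroupOf P.N).subgroupOf K from h ▸ mem_top _)
  · exfalso
    have hres : pResidual t ↥K ≤ Subgroup.center ↥K := by
      rw [pResidual, Subgroup.closure_le]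
      exact fun x hx => h (hpW x x.2 (by simpa [orderOf_coe] using hx))
    have hq : IsPGroup t (↥K ⧸ Subgroup.center ↥K) :=
      Transfer.isPGroup_quotient_of_pResidual_le hres
    haveI : Group.IsNilpotent (↥K ⧸ Subgroup.center ↥K) := hq.isNilpotent
    haveI : Group.IsNilpotent ↥K := Group.of_quotient_center_nilpotent inferInstance
    exact Components.component_not_isSolvable hK
      (Coprime.isSolvable_of_isNilpotent' inferInstance)

theorem exists_pCoreOf_swap_A2_ne_bot (hA : P.A2 ≠ ⊥) (hB : P.swap.A2 ≠ ⊥) :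
    ∃ t, t.Prime ∧ pCoreOf t P.swap.A2 ≠ ⊥ :=
  P.swap.exists_pCoreOf_A2_ne_bot hB hA

theorem pCoreOf_A2_ne_bot {t : ℕ} [Fact t.Prime] (hA : P.A2 ≠ ⊥) (hB : pCoreOf t P.swap.A2 ≠ ⊥) :
    pCoreOf t P.A2 ≠ ⊥ := by
  have hB' : P.swap.A2 ≠ ⊥ := fun h => hB (le_bot_iff.mp ((pCoreOf_le _ _).trans h.le))
  obtain ⟨q, hq, hne⟩ := P.exists_pCoreOf_A2_ne_bot hA hB'
  haveI : Fact q.Prime := ⟨hq⟩
  rcases eq_or_ne q t with rfl | hqt
  · exact hne
  · exact absurd (le_bot_iff.mp ((P.pCoreOf_A2_le q).trans_eq (P.pCoreOf_N_eq_bot_of_ne hB hqt)))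
      hne

/-- A subgroup subnormal in `M` has generalized Fitting subgroup its `O_t`. -/
theorem generalizedFitting_eq_pCore {t : ℕ} [Fact t.Prime] (hA : P.A2 ≠ ⊥)
    (hB : pCoreOf t P.swap.A2 ≠ ⊥) {X : Subgroup G} (hX : SubnormalIn X P.M) :
    generalizedFittingSubgroup ↥X = pCore t ↥X := by
  have hB' : P.swap.A2 ≠ ⊥ := fun h => hB (le_bot_iff.mp ((pCoreOf_le _ _).trans h.le))
  have hL : layer ↥X = ⊥ := (layerOf_eq_bot_iff X).mp
    (le_bot_iff.mp (hX.layerOf_le.trans_eq
      (P.swap.layerOf_N_eq_bot hB' (P.pCoreOf_A2_ne_bot hA hB))))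
  rw [generalizedFittingSubgroup, hL, bot_sup_eq]
  refine le_antisymm ?_ (Fitting.pCore_le_fitting t)
  rw [Fitting.fitting_eq_iSup_pCore, iSup_le_iff]
  intro r
  rcases eq_or_ne (r : ℕ) t with h | h
  · rw [h]
  · haveI : Fact (r : ℕ).Prime := ⟨r.2⟩
    rw [(pCoreOf_eq_bot_iff _ _).mp (le_bot_iff.mp
      ((hX.pCoreOf_le r).trans_eq (P.pCoreOf_eq_bot_of_ne hB h)))]
    exact bot_le

/-- The second core `A₂` is a `t`-group. -/
theorem isPGroup_A2 {t : ℕ} [Fact t.Prime] (hB : pCoreOf t P.swap.A2 ≠ ⊥) :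
    IsPGroup t ↥P.A2 := by
  set X := pResidualOf t P.A2 with hXdef
  rcases eq_or_ne X ⊥ with hX | hX
  · have h : pResidual t ↥P.A2 = ⊥ :=
      (map_eq_bot_iff_of_injective _ P.A2.subtype_injective).mp hX
    exact (Transfer.isPGroup_quotient_of_pResidual_le h.le).of_equiv QuotientGroup.quotientBot
  exfalso
  have hgen : pResidual t ↥X = ⊤ := pResidual_pResidualOf t _
  have hXA : X ≤ P.A2 := pResidualOf_le _ _
  have hXn : P.M ≤ Subgroup.normalizer (X : Set G) :=
    P.M_le_normalizer_A2.trans (normalizer_le_normalizer_pResidualOf t _)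
  have hNX : Subgroup.normalizer (X : Set G) = P.M :=
    P.normalizer_eq hX (hXA.trans P.A2_le) hXn
  have hXsub : SubnormalIn X P.N :=
    SubnormalIn.step hXA (le_normalizer.trans (normalizer_le_normalizer_pResidualOf t _))
      P.subnormal_A2'
  have hQ2 : pCoreOf t P.N ≤ P.M := (hXsub.pCoreOf_le_normalizer t hgen).trans_eq hNX
  set U := pCoreOf t P.M ⊓ P.N with hUdef
  have hUt : IsPGroup t ↥U := (isPGroup_pCoreOf t _).to_le inf_le_left
  have hB1D : P.swap.A1 ≤ P.M ⊓ P.N := le_inf P.swap.A1_le' P.swap.A1_le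
  have hUn : P.M ⊓ P.N ≤ Subgroup.normalizer (U : Set G) :=
    Coprime.le_normalizer_inf (inf_le_left.trans (le_normalizer_pCoreOf _ _))
      (inf_le_right.trans le_normalizer)
  have hUB : U ⊓ P.swap.A1 ≤ pCoreOf t P.N :=
    (SubnormalIn.step inf_le_right (Coprime.le_normalizer_inf (hB1D.trans hUn) le_normalizer)
      P.swap.subnormal_A1).le_pCoreOf (hUt.to_le inf_le_left)
  have hUB1 : U ≤ P.swap.A1 := by
    intro u hu
    refine mem_coreIn.mpr ⟨hu.2, fun m hm => ?_⟩
    refine mem_inf.mpr ⟨mul_mem (mul_mem hm hu.2) (inv_mem hm), ?_⟩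
    show m * u * m⁻¹ ∈ P.M
    rw [← hNX]
    set C := (X.map (MulAut.conj m⁻¹).toMonoidHom) with hC
    -- `u` normalizes the conjugate `C` of `X`
    have hCB : C ≤ P.swap.A1 := by
      rintro _ ⟨x, hx, rfl⟩
      exact conj_mem_coreIn (inv_mem hm) (P.A2_le_B1 (hXA hx))
    have hQC : pCoreOf t P.N ≤ Subgroup.normalizer (C : Set G) := by
      refine Coprime.le_normalizer_of_conj_mem ?_
      rintro q hq _ ⟨x, hx, rfl⟩
      have hq' : m * q * m⁻¹ ∈ Subgroup.normalizer (X : Set G) :=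
        hXsub.pCoreOf_le_normalizer t hgen
          ((mem_normalizer_iff.mp (le_normalizer_pCoreOf t P.N hm) q).mp hq)
      refine ⟨(m * q * m⁻¹) * x * (m * q * m⁻¹)⁻¹, (mem_normalizer_iff.mp hq' x).mp hx, ?_⟩
      simp [MulAut.conj_apply, mul_assoc]
    have hcl : X ≤ C.comap
        ((MulAut.conj u).toMonoidHom.comp (MulAut.conj m⁻¹).toMonoidHom) := by
      refine le_of_coprime_mem hgen fun x hx hcop => ?_
      set a := MulAut.conj m⁻¹ x with ha
      have haC : a ∈ C := ⟨x, hx, rfl⟩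
      have haB : a ∈ P.swap.A1 := hCB haC
      have hAn : Subgroup.zpowers a ≤ Subgroup.normalizer (U : Set G) :=
        zpowers_le.mpr (hUn (hB1D haB))
      have hcop' : (Nat.card (Subgroup.zpowers a)).Coprime (Nat.card U) := by
        obtain ⟨n, hn⟩ := IsPGroup.iff_card.mp hUt
        rw [Nat.card_zpowers, hn, ha, MulEquiv.orderOf_eq]
        exact hcop.pow_right n
      have h1 : ⁅U, Subgroup.zpowers a⁆ ≤ pCoreOf t P.N := by
        refine le_trans (le_inf (Coprime.commutator_le_of_le_normalizer hAn) ?_) hUB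
        refine (commutator_mono le_rfl (zpowers_le.mpr haB)).trans ?_
        rw [commutator_comm]
        exact Coprime.commutator_le_of_le_normalizer
          ((inf_le_right : U ≤ P.N).trans P.swap.M_le_normalizer_A1)
      have h2 : ⁅U, Subgroup.zpowers a⁆ ≤ C := by
        rw [← Coprime.commutator_commutator_eq _ U hAn hcop'
          (Or.inr (Coprime.isSolvable_of_isNilpotent' hUt.isNilpotent))]
        refine (commutator_mono h1 (zpowers_le.mpr haC)).trans ?_
        rw [commutator_comm]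
        exact Coprime.commutator_le_of_le_normalizer hQC
      show u * a * u⁻¹ ∈ C
      have := mul_mem (h2 (commutator_mem_commutator hu (mem_zpowers a))) haC
      simpa [commutatorElement_def] using this
    refine Coprime.le_normalizer_of_conj_mem (A := Subgroup.zpowers (m * u * m⁻¹)) ?_
      (mem_zpowers _)
    intro w hw x hx
    have key : ∀ y ∈ X, (m * u * m⁻¹) * y * (m * u * m⁻¹)⁻¹ ∈ X := by
      intro y hy
      obtain ⟨z, hz, hze⟩ := hcl hy
      have : (m * u * m⁻¹) * y * (m * u * m⁻¹)⁻¹ = z := by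
        have hze' : m⁻¹ * z * m⁻¹⁻¹ = u * (m⁻¹ * y * m⁻¹⁻¹) * u⁻¹ := by
          simpa [MulAut.conj_apply, mul_assoc] using hze
        calc (m * u * m⁻¹) * y * (m * u * m⁻¹)⁻¹
            = m * (u * (m⁻¹ * y * m⁻¹⁻¹) * u⁻¹) * m⁻¹ := by simp [mul_assoc]
          _ = m * (m⁻¹ * z * m⁻¹⁻¹) * m⁻¹ := by rw [hze']
          _ = z := by simp [mul_assoc]
      exact this ▸ hz
    have hmem : m * u * m⁻¹ ∈ Subgroup.normalizer (X : Set G) :=
      Subgroup.mem_normalizer_fintype key
    exact (mem_normalizer_iff.mp (zpowers_le.mpr hmem hw) x).mp hx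
  have hne : pCoreOf t P.N ≠ ⊥ := fun h => P.pCoreOf_M_ne_bot hB
    (card_eq_one.mp (by rw [card_pCoreOf_congr t P.equiv.some, h, card_bot]))
  have h := le_of_normalizer_inf_le (isPGroup_pCoreOf t P.N) (isPGroup_pCoreOf t P.M)
    (hQ2.trans (le_normalizer_pCoreOf _ _)) (by
      have : Subgroup.normalizer (pCoreOf t P.N : Set G) = P.N :=
        P.swap.normalizer_eq hne (pCoreOf_le _ _) (le_normalizer_pCoreOf _ _)
      rw [this, inf_comm]
      exact (le_inf le_rfl hUB1).trans hUB)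
  exact P.pCoreOf_M_ne_bot hB (P.eq_of_pCoreOf_le t h)

/-- Thompson–Wielandt. -/
theorem thompson_wielandt (hA : P.A2 ≠ ⊥) (hB : P.swap.A2 ≠ ⊥) :
    ∃ p : ℕ, p.Prime ∧ IsPGroup p ↥(P.A2 ⊔ P.swap.A2) ∧
      generalizedFittingSubgroup ↥P.M = pCore p ↥P.M ∧
      generalizedFittingSubgroup ↥P.A1 = pCore p ↥P.A1 ∧
      generalizedFittingSubgroup ↥P.N = pCore p ↥P.N ∧
      generalizedFittingSubgroup ↥P.swap.A1 = pCore p ↥P.swap.A1 := by
  obtain ⟨t, ht, hBt⟩ := P.exists_pCoreOf_swap_A2_ne_bot hA hB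
  haveI : Fact t.Prime := ⟨ht⟩
  have hAt : pCoreOf t P.swap.swap.A2 ≠ ⊥ := P.pCoreOf_A2_ne_bot hA hBt
  refine ⟨t, ht, ?_, ?_, ?_, ?_, ?_⟩
  · exact (P.isPGroup_A2 hBt).to_sup_of_normal_left' (P.swap.isPGroup_A2 hAt)
      (P.swap.A2_le'.trans P.M_le_normalizer_A2)
  · exact P.generalizedFitting_eq_pCore hA hBt
      (SubnormalIn.of_le_normalizer le_rfl le_normalizer)
  · exact P.generalizedFitting_eq_pCore hA hBt P.subnormal_A1
  · exact P.swap.generalizedFitting_eq_pCore hB hAt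
      (SubnormalIn.of_le_normalizer le_rfl le_normalizer)
  · exact P.swap.generalizedFitting_eq_pCore hB hAt P.swap.subnormal_A1

end MPair

end Cfsg.Agent.LAE65.TW
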